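import Mathlib
import Cfsg.Agent.S3444

set_option autoImplicit false

/-!
Element orders in `V ⋊ L` for a group `L` of automorphisms of an abelian group `V` of prime exponent,
and the groups that are isospectral to it.
-/

namespace CfsgLib.Affine57

variable {V : Type*} [AddCommGroup V] (L : Subgroup (AddMonoid.End V)ˣ)

/-- The natural action of `L` on `V`, written multiplicatively. -/
def act : L →* MulAut (Multiplicative V) where
  toFun f := AddEquiv.toMultiplicative
    { toFun := fun v => ((f : (AddMonoid.End V)ˣ) : AddMonoid.End V) v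
      invFun := fun v => (((f : (AddMonoid.End V)ˣ)⁻¹ : (AddMonoid.End V)ˣ) : AddMonoid.End V) v
      left_inv := fun v => DFunLike.congr_fun (Units.inv_mul (f : (AddMonoid.End V)ˣ)) v
      right_inv := fun v => DFunLike.congr_fun (Units.mul_inv (f : (AddMonoid.End V)ˣ)) v
      map_add' := fun v w => map_add _ v w }
  map_one' := rfl
  map_mul' _ _ := rfl

/-- The application of an automorphism. -/
abbrev app (f : (AddMonoid.End V)ˣ) (v : V) : V := (f : AddMonoid.End V) v

theorem app_mul (f g : (AddMonoid.End V)ˣ) (v : V) : app (f * g) v = app f (app g v) := rfl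

/-- The affine group `V ⋊ L`. -/
abbrev Aff : Type _ := SemidirectProduct (Multiplicative V) L (act L)

variable {L}

theorem app_sum (f : (AddMonoid.End V)ˣ) (n : ℕ) (x : ℕ → V) :
    app f (∑ i ∈ Finset.range n, x i) = ∑ i ∈ Finset.range n, app f (x i) :=
  map_sum (f : AddMonoid.End V) x _

theorem left_pow (g : Aff L) (n : ℕ) :
    Multiplicative.toAdd (g ^ n).left =
      ∑ i ∈ Finset.range n, app ((g.right : (AddMonoid.End V)ˣ) ^ i) (Multiplicative.toAdd g.left) := by
  induction n with
  | zero => simp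
  | succ n ih =>
    rw [pow_succ', Finset.sum_range_succ']
    show Multiplicative.toAdd g.left + app (g.right : (AddMonoid.End V)ˣ) (Multiplicative.toAdd (g ^ n).left) = _
    rw [ih, app_sum, add_comm]
    congr 1
    exact Finset.sum_congr rfl fun i _ => by rw [pow_succ', app_mul]

theorem right_pow (g : Aff L) (n : ℕ) : ((g ^ n).right : (AddMonoid.End V)ˣ) = (g.right : (AddMonoid.End V)ˣ) ^ n := by
  rw [show (g ^ n).right = g.right ^ n from map_pow SemidirectProduct.rightHom g n, SubmonoidClass.coe_pow]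

/-- If the norm map of `g.right` vanishes then so does the normal component of the power. -/
theorem orderOf_dvd_of_norm (g : Aff L) {n : ℕ} (hn : (g.right : (AddMonoid.End V)ˣ) ^ n = 1)
    (hnorm : ∀ v : V, ∑ i ∈ Finset.range n, app ((g.right : (AddMonoid.End V)ˣ) ^ i) v = 0) : orderOf g ∣ n := by
  refine orderOf_dvd_of_pow_eq_one (SemidirectProduct.ext ?_ ?_)
  · apply Multiplicative.toAdd.injective
    rw [left_pow, hnorm]
    rfl
  · exact Subtype.ext ((right_pow g n).trans hn)

theorem orderOf_dvd_mul {p : ℕ} (hV : ∀ v : V, p • v = 0) (g : Aff L) {n : ℕ}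
    (hn : (g.right : (AddMonoid.End V)ˣ) ^ n = 1) : orderOf g ∣ n * p := by
  refine orderOf_dvd_of_norm g (by rw [pow_mul, hn, one_pow]) fun v => ?_
  have h : ∀ k : ℕ, ∑ i ∈ Finset.range (n * k), app ((g.right : (AddMonoid.End V)ˣ) ^ i) v =
      k • ∑ i ∈ Finset.range n, app ((g.right : (AddMonoid.End V)ˣ) ^ i) v := by
    intro k
    induction k with
    | zero => simp
    | succ k ih =>
      rw [Nat.mul_succ, Finset.sum_range_add, ih, succ_nsmul]
      congr 1
      exact Finset.sum_congr rfl fun i _ => by rw [pow_add, pow_mul, hn, one_pow, one_mul]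
  exact (h p).trans (hV _)

/-- An element without fixed points has the same order as its lifts. -/
theorem orderOf_dvd_of_fpf (g : Aff L) {n : ℕ} (hn : (g.right : (AddMonoid.End V)ˣ) ^ n = 1)
    (hfix : ∀ v : V, app (g.right : (AddMonoid.End V)ˣ) v = v → v = 0) : orderOf g ∣ n := by
  refine orderOf_dvd_of_norm g hn fun v => hfix _ ?_
  rw [app_sum]
  have h1 := Finset.sum_range_succ' (fun i => app ((g.right : (AddMonoid.End V)ˣ) ^ i) v) n
  have h2 := Finset.sum_range_succ (fun i => app ((g.right : (AddMonoid.End V)ˣ) ^ i) v) n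
  rw [h2, hn] at h1
  simp only [pow_zero] at h1
  refine (Finset.sum_congr rfl fun i _ => ?_).trans (add_right_cancel h1).symm
  rw [pow_succ', app_mul]

theorem dvd_orderOf (g : Aff L) {n : ℕ}
    (hn : ∀ k : ℕ, (g.right : (AddMonoid.End V)ˣ) ^ k = 1 → n ∣ k) : n ∣ orderOf g :=
  hn _ (by rw [← right_pow, pow_orderOf_eq_one]; rfl)

/-- A fixed vector multiplies the order by the exponent. -/
theorem exists_mul_dvd_orderOf {p : ℕ} (hp : p.Prime) (hV : ∀ v : V, p • v = 0) {f : (AddMonoid.End V)ˣ} (hf : f ∈ L)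
    {n : ℕ} (hn : f ^ n = 1) (hn' : ∀ k : ℕ, f ^ k = 1 → n ∣ k) (hcop : ¬ p ∣ n) {w : V} (hw : w ≠ 0)
    (hfw : app f w = w) : ∃ g : Aff L, n * p ∣ orderOf g := by
  refine ⟨⟨Multiplicative.ofAdd w, ⟨f, hf⟩⟩, ?_⟩
  have h1 := dvd_orderOf (⟨Multiplicative.ofAdd w, ⟨f, hf⟩⟩ : Aff L) hn'
  refine Nat.Coprime.mul_dvd_of_dvd_of_dvd ((hp.coprime_iff_not_dvd).2 hcop).symm h1 ?_
  set g : Aff L := ⟨Multiplicative.ofAdd w, ⟨f, hf⟩⟩ with hg
  have h2 : orderOf g ∣ n * p := orderOf_dvd_mul hV g hn
  by_contra h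
  have h3 : orderOf g ∣ n :=
    (Nat.Coprime.dvd_mul_right (Nat.Coprime.symm ((hp.coprime_iff_not_dvd).2 h))).1 h2
  have h4 : g ^ n = 1 := orderOf_dvd_iff_pow_eq_one.1 h3
  have h5 := left_pow g n
  rw [h4] at h5
  have hfix : ∀ i : ℕ, app (f ^ i) w = w := by
    intro i
    induction i with
    | zero => rfl
    | succ i ih => rw [pow_succ, app_mul, hfw, ih]
  change (0 : V) = ∑ i ∈ Finset.range n, app (f ^ i) w at h5
  rw [Finset.sum_congr rfl (fun i _ => hfix i), Finset.sum_const, Finset.card_range] at h5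
  have h6 : addOrderOf w ∣ n := addOrderOf_dvd_of_nsmul_eq_zero h5.symm
  haveI := Fact.mk hp
  rw [addOrderOf_eq_prime (hV w) hw] at h6
  exact hcop h6

/-- Arbitrarily large groups with the element orders of `V ⋊ L`. -/
theorem exists_large [Finite V] [Nontrivial V] (S : Set ℕ) (hupper : ∀ g : Aff L, orderOf g ∈ S)
    (hlower : ∀ k ∈ S, 0 < k ∧ ∃ g : Aff L, k ∣ orderOf g) (N : ℕ) :
    ∃ (H : Type) (_ : Group H) (_ : Fintype H), N < Fintype.card H ∧ Set.range (orderOf : H → ℕ) = S := by
  haveI : Finite (AddMonoid.End V) :=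
    Finite.of_injective (fun f : AddMonoid.End V => (f : V → V)) DFunLike.coe_injective
  haveI : Finite (Multiplicative V) := Finite.of_equiv V Multiplicative.ofAdd
  haveI : Finite (Aff L) := Finite.of_equiv _ SemidirectProduct.equivProd.symm
  haveI : (SemidirectProduct.inl : Multiplicative V →* Aff L).range.Normal := by
    rw [SemidirectProduct.range_inl_eq_ker_rightHom]
    infer_instance
  have hne : (SemidirectProduct.inl : Multiplicative V →* Aff L).range ≠ ⊥ := by
    rw [Ne, MonoidHom.range_eq_bot_iff]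
    intro h
    obtain ⟨v, hv⟩ := exists_ne (0 : V)
    exact hv (Multiplicative.ofAdd.injective (SemidirectProduct.inl_injective
      ((DFunLike.congr_fun h (Multiplicative.ofAdd v)).trans (map_one _).symm)))
  have hsol : Group.IsSolvable (SemidirectProduct.inl : Multiplicative V →* Aff L).range :=
    Group.isSolvable_of_surjective
      (f := (SemidirectProduct.inl : Multiplicative V →* Aff L).rangeRestrict)
      (MonoidHom.rangeRestrict_surjective _)
  obtain ⟨H, i₁, i₂, h₁, h₂⟩ := Cfsg.Agent.S3444.result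
    (SemidirectProduct.inl : Multiplicative V →* Aff L).range hne hsol N
  refine ⟨H, i₁, i₂, h₁, h₂.trans (Set.Subset.antisymm ?_ fun k hk => ?_)⟩
  · rintro _ ⟨g, rfl⟩
    exact hupper g
  · obtain ⟨-, g, hg⟩ := hlower k hk
    exact ⟨g ^ (orderOf g / k), orderOf_pow_orderOf_div (orderOf_pos g).ne' hg⟩

end CfsgLib.Affine57
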