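import Mathlib

set_option autoImplicit false

/-!
Powers of a matrix from the roots of its characteristic polynomial.
-/

open Polynomial Matrix

namespace CfsgLib.Roots57

variable {K : Type*} [Field K] {n : Type*} [Fintype n] [DecidableEq n]

/-- If every root of the characteristic polynomial has `k`-th power `c` and multiplicity at most `m`,
then `(G ^ k - c) ^ m = 0`. -/
theorem pow_sub_scalar_pow_eq_zero [IsAlgClosed K] (G : Matrix n n K) {k m : ℕ} {c : K}
    (hroot : ∀ r ∈ G.charpoly.roots, r ^ k = c)
    (hcount : ∀ r, G.charpoly.rootMultiplicity r ≤ m) :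
    (G ^ k - c • 1) ^ m = 0 := by
  classical
  set R := G.charpoly.roots with hR
  have hprod : G.charpoly = (R.map fun r => X - C r).prod :=
    (IsAlgClosed.splits G.charpoly).eq_prod_roots_of_monic (charpoly_monic G)
  have hle : R ≤ m • R.dedup := by
    rw [Multiset.le_iff_count]
    intro r
    by_cases hr : r ∈ R
    · rw [Multiset.count_nsmul, Multiset.count_dedup, if_pos hr, mul_one, hR, count_roots]
      exact hcount r
    · rw [Multiset.count_eq_zero.2 hr]
      exact Nat.zero_le _
  have h1 : (R.dedup.map fun r => X - C r).prod ∣ X ^ k - C c := by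
    show (∏ r ∈ R.toFinset, (X - C r)) ∣ X ^ k - C c
    refine Finset.prod_dvd_of_coprime ?_ fun r hr => ?_
    · intro a _ b _ hab
      exact isCoprime_X_sub_C_of_isUnit_sub (sub_ne_zero.2 hab).isUnit
    · rw [dvd_iff_isRoot, IsRoot, eval_sub, eval_pow, eval_X, eval_C,
        hroot r (Multiset.mem_toFinset.1 hr), sub_self]
  have h2 : G.charpoly ∣ (X ^ k - C c) ^ m := by
    refine dvd_trans ?_ (pow_dvd_pow_of_dvd h1 m)
    rw [hprod, ← Multiset.prod_nsmul, ← Multiset.map_nsmul]
    exact Multiset.prod_dvd_prod_of_le (Multiset.map_le_map hle)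
  obtain ⟨f, hf⟩ := h2
  have h3 := congrArg (aeval G) hf
  rwa [map_mul, aeval_self_charpoly, zero_mul, map_pow, map_sub, map_pow, aeval_X, aeval_C,
    Algebra.algebraMap_eq_smul_one] at h3

/-- If moreover `m ≤ p ^ e` in characteristic `p`, then `G ^ (k * p ^ e)` is scalar. -/
theorem pow_eq_scalar [IsAlgClosed K] [Nonempty n] {p : ℕ} [Fact p.Prime] [CharP K p] (G : Matrix n n K)
    {k m e : ℕ} {c : K} (hroot : ∀ r ∈ G.charpoly.roots, r ^ k = c)
    (hcount : ∀ r, G.charpoly.rootMultiplicity r ≤ m) (he : m ≤ p ^ e) :
    G ^ (k * p ^ e) = c ^ p ^ e • 1 := by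
  have h := pow_sub_scalar_pow_eq_zero G hroot hcount
  have h' : (G ^ k - c • 1) ^ p ^ e = 0 := pow_eq_zero_of_le he h
  rwa [sub_pow_char_pow_of_commute (p := p) (h := (Commute.one_right _).smul_right c), ← pow_mul,
    _root_.smul_pow, one_pow, sub_eq_zero] at h'

/-- A matrix whose extension to a larger field is scalar is scalar. -/
theorem scalar_of_map {F : Type*} [Field F] [Algebra F K] [Nonempty n] (A : Matrix n n F) {c : K}
    (h : A.map (algebraMap F K) = c • 1) : ∃ c' : F, A = c' • 1 ∧ algebraMap F K c' = c := by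
  obtain ⟨i₀⟩ := ‹Nonempty n›
  have e : ∀ i j, algebraMap F K (A i j) = if i = j then c else 0 := fun i j => by
    have := congrFun (congrFun h i) j
    rw [Matrix.map_apply, Matrix.smul_apply, Matrix.one_apply, smul_eq_mul] at this
    rw [this]
    split_ifs <;> simp
  refine ⟨A i₀ i₀, ?_, by simpa using e i₀ i₀⟩
  ext i j
  rw [Matrix.smul_apply, Matrix.one_apply, smul_eq_mul]
  apply (algebraMap F K).injective
  rw [e]
  split_ifs <;> simp [e]

/-- The roots of a polynomial of a subfield with `q` elements are permuted by `r ↦ r ^ q`. -/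
theorem rootMultiplicity_frobenius {F : Type*} [Field F] [Fintype F] [Algebra F K] (f : F[X]) (r : K) :
    (f.map (algebraMap F K)).rootMultiplicity (r ^ Fintype.card F) =
      (f.map (algebraMap F K)).rootMultiplicity r := by
  classical
  let φ : K →+* K := (FiniteField.frobeniusAlgHom F K).toRingHom
  have hφ : ∀ x : K, φ x = x ^ Fintype.card F := fun x => rfl
  have h : (f.map (algebraMap F K)).map φ = f.map (algebraMap F K) := by
    rw [Polynomial.map_map]
    congr 1
    ext a
    exact (FiniteField.frobeniusAlgHom F K).commutes a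
  conv_lhs => rw [← h, ← hφ r]
  exact (eq_rootMultiplicity_map φ.injective r).symm

omit [Fintype n] [DecidableEq n] in
theorem reverse_prod_X_sub_C (R : Multiset K) :
    (R.map fun r => X - C r).prod.reverse = (R.map fun r => 1 - C r * X).prod := by
  induction R using Multiset.induction with
  | empty =>
    show reverse (1 : K[X]) = 1
    rw [← C_1, reverse_C]
  | cons a R ih =>
    rw [Multiset.map_cons, Multiset.prod_cons, reverse_mul_of_domain, ih, Multiset.map_cons,
      Multiset.prod_cons]
    congr 1
    have : reverse (X - C a) = 1 - C a * X := by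
      rw [reverse, natDegree_X_sub_C, reflect_sub, reflect_C, pow_one]
      have : reflect 1 (X : K[X]) = 1 := by
        have h := reflect_monomial (R := K) 1 1
        rw [revAt_le (le_refl 1), Nat.sub_self, pow_zero, pow_one] at h
        exact h
      rw [this]
    exact this

/-- The roots of the characteristic polynomial of the inverse are the inverses. -/
theorem roots_charpoly_inv [IsAlgClosed K] (A : Matrix n n K) (hA : IsUnit A) :
    A⁻¹.charpoly.roots = A.charpoly.roots.map (fun r => r⁻¹) := by
  classical
  set R := A.charpoly.roots with hR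
  have hprod : A.charpoly = (R.map fun r => X - C r).prod :=
    (IsAlgClosed.splits A.charpoly).eq_prod_roots_of_monic (charpoly_monic A)
  have hdet : A.det ≠ 0 := ((Matrix.isUnit_iff_isUnit_det A).1 hA).ne_zero
  have h0 : ∀ r ∈ R, r ≠ 0 := by
    rintro r hr rfl
    have h := Matrix.det_eq_prod_roots_charpoly_of_splits (IsAlgClosed.splits A.charpoly)
    rw [← hR, Multiset.prod_eq_zero hr] at h
    exact hdet h
  have hrev : A.charpolyRev = C ((R.map fun r => -r).prod) * ((R.map fun r => r⁻¹).map fun s => X - C s).prod := by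
    rw [← Matrix.reverse_charpoly, hprod, reverse_prod_X_sub_C, map_multiset_prod, Multiset.map_map,
      Multiset.map_map, ← Multiset.prod_map_mul]
    refine congrArg Multiset.prod (Multiset.map_congr rfl fun r hr => ?_)
    simp only [Function.comp_apply]
    rw [mul_sub, ← C_mul, neg_mul, mul_inv_cancel₀ (h0 r hr), C_neg, C_neg, C_1]
    ring
  have hc : ((-1 : K[X]) ^ Fintype.card n * C (Ring.inverse A.det)) * A.charpolyRev =
      C ((-1) ^ Fintype.card n * Ring.inverse A.det * (R.map fun r => -r).prod) *
        ((R.map fun r => r⁻¹).map fun s => X - C s).prod := by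
    rw [hrev, C_mul, C_mul, C_pow, C_neg, C_1]
    ring
  have hne : (-1) ^ Fintype.card n * Ring.inverse A.det * (R.map fun r => -r).prod ≠ 0 := by
    refine mul_ne_zero (mul_ne_zero (pow_ne_zero _ (neg_ne_zero.2 one_ne_zero)) ?_) ?_
    · rw [Ring.inverse_eq_inv']
      exact inv_ne_zero hdet
    · refine Multiset.prod_ne_zero ?_
      intro h
      obtain ⟨r, hr, h'⟩ := Multiset.mem_map.1 h
      exact h0 r hr (neg_eq_zero.1 h')
  rw [Matrix.charpoly_inv A hA, hc, roots_C_mul _ hne, roots_multiset_prod_X_sub_C]

end CfsgLib.Roots57
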