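import Mathlib
import Cfsg.Prelude.Def_Classical
import Cfsg.Agent.SympOrders.Witness
import Cfsg.Agent.Isospectral57.Roots

set_option autoImplicit false

/-!
The element orders of `PSp(4,q)`.
-/

open Polynomial Matrix

namespace CfsgLib.PSpFour

/-- The numbers dividing one of `(q²±1)/(2,q-1)`, `p(q±1)`, and `p²` for `p ≤ 3`. -/
def spec (p q : ℕ) : Set ℕ :=
  {m | 0 < m ∧ (m ∣ (q ^ 2 + 1) / Nat.gcd 2 (q - 1) ∨ m ∣ (q ^ 2 - 1) / Nat.gcd 2 (q - 1) ∨
    m ∣ p * (q - 1) ∨ m ∣ p * (q + 1) ∨ (p ≤ 3 ∧ m ∣ p ^ 2))}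

theorem mem_spec_of_dvd {p q m n : ℕ} (hm : 0 < m) (hn : n ∈ spec p q) (h : m ∣ n) : m ∈ spec p q := by
  obtain ⟨-, h1 | h1 | h1 | h1 | ⟨h1, h2⟩⟩ := hn
  exacts [⟨hm, Or.inl (h.trans h1)⟩, ⟨hm, Or.inr (Or.inl (h.trans h1))⟩,
    ⟨hm, Or.inr (Or.inr (Or.inl (h.trans h1)))⟩, ⟨hm, Or.inr (Or.inr (Or.inr (Or.inl (h.trans h1))))⟩,
    ⟨hm, Or.inr (Or.inr (Or.inr (Or.inr ⟨h1, h.trans h2⟩)))⟩]

/-- Two cases for the parity of a prime power. -/
theorem gcd_cases {q : ℕ} (hq : 1 ≤ q) :
    (q % 2 = 1 ∧ Nat.gcd 2 (q - 1) = 2) ∨ (q % 2 = 0 ∧ Nat.gcd 2 (q - 1) = 1) := by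
  rcases Nat.mod_two_eq_zero_or_one q with h | h
  · exact Or.inr ⟨h, (Nat.prime_two.coprime_iff_not_dvd).2 (by omega)⟩
  · exact Or.inl ⟨h, Nat.gcd_eq_left (by omega)⟩

/-- A power of a nonzero element with `r ^ N = 1` has square one at half `N`. -/
theorem half_sq {K : Type*} [Field K] {r : K} {q N : ℕ} (hq : 1 ≤ q) (hN : q % 2 = 1 → 2 ∣ N)
    (h : r ^ N = 1) : (r ^ (N / Nat.gcd 2 (q - 1))) ^ Nat.gcd 2 (q - 1) = 1 := by
  rw [← pow_mul, Nat.div_mul_cancel, h]
  rcases gcd_cases hq with ⟨h1, h2⟩ | ⟨-, h2⟩ <;> rw [h2]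
  · exact hN h1
  · exact one_dvd N

theorem pow_sq_minus {K : Type*} [Field K] {r : K} {q : ℕ} (hq : 1 ≤ q)
    (h : r ^ (q - 1) = 1 ∨ r ^ (q + 1) = 1) : r ^ ((q ^ 2 - 1) / Nat.gcd 2 (q - 1)) = 1 := by
  obtain ⟨a, rfl⟩ : ∃ a, q = a + 1 := ⟨q - 1, by omega⟩
  have e : (a + 1) ^ 2 = a * (a + 2) + 1 := by ring
  rw [e, Nat.add_sub_cancel]
  rcases gcd_cases hq with ⟨h1, h2⟩ | ⟨-, h2⟩
  · rw [h2]
    simp only [Nat.add_sub_cancel] at h
    rcases h with h | h
    · rw [Nat.mul_div_assoc a (show 2 ∣ a + 2 by omega), pow_mul, h, one_pow]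
    · rw [mul_comm, Nat.mul_div_assoc (a + 2) (show 2 ∣ a by omega), pow_mul,
        show a + 2 = a + 1 + 1 by omega, h, one_pow]
  · rw [h2, Nat.div_one]
    simp only [Nat.add_sub_cancel] at h
    rcases h with h | h
    · rw [pow_mul, h, one_pow]
    · rw [mul_comm, pow_mul, show a + 2 = a + 1 + 1 by omega, h, one_pow]

section Upper

variable {F : Type*} [Field F] [Fintype F]

set_option linter.unusedSectionVars false in
theorem eq_one_or_neg_one {K : Type*} [Field K] {r : K} (h : r⁻¹ = r) (h0 : r ≠ 0) : r = 1 ∨ r = -1 :=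
  mul_self_eq_one_iff.1 (by nth_rewrite 1 [← h]; exact inv_mul_cancel₀ h0)

set_option linter.unusedSectionVars false in
/-- A matrix preserving an invertible form has its root multiset closed under inversion. -/
theorem roots_inv {K : Type*} [Field K] [IsAlgClosed K] {n : Type*} [Fintype n] [DecidableEq n]
    (G J : Matrix n n K) (hJu : IsUnit J) (h2 : G * J * Gᵀ = J) (hunit : IsUnit G) :
    G.charpoly.roots.map (fun r => r⁻¹) = G.charpoly.roots := by
  have h3 : J * Gᵀ = G⁻¹ * J := by
    conv_rhs => rw [← h2, ← mul_assoc, ← mul_assoc,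
      Matrix.nonsing_inv_mul G ((Matrix.isUnit_iff_isUnit_det _).1 hunit), one_mul]
  have e : hJu.unit.val * Gᵀ * (hJu.unit⁻¹ : (Matrix n n K)ˣ).val = G⁻¹ := by
    rw [IsUnit.unit_spec, h3, mul_assoc, IsUnit.mul_val_inv, mul_one]
  have h4 : G⁻¹.charpoly = G.charpoly := by
    rw [← e, ← charpoly_transpose G, Matrix.coe_units_inv]
    exact Matrix.charpoly_units_conj hJu.unit Gᵀ
  exact (CfsgLib.Roots57.roots_charpoly_inv G hunit).symm.trans (congrArg Polynomial.roots h4)

theorem order_mem_aux {K : Type*} [Field K] [IsAlgClosed K] [Algebra F K] (p : ℕ) [Fact p.Prime]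
    [CharP F p] (g : Cfsg.PSp 2 F) : orderOf g ∈ spec p (Fintype.card F) := by
  classical
  obtain ⟨g, rfl⟩ := QuotientGroup.mk_surjective g
  set q := Fintype.card F with hq
  have hq2 : 2 ≤ q := Fintype.one_lt_card
  haveI : CharP K p := charP_of_injective_algebraMap (algebraMap F K).injective p
  set A := (g : Matrix (Fin 2 ⊕ Fin 2) (Fin 2 ⊕ Fin 2) F) with hA
  set G := A.map (algebraMap F K) with hG
  refine ⟨orderOf_pos _, ?_⟩
  -- scalar powers give divisors
  have hdvd : ∀ {k m e : ℕ} {c : K}, (∀ r ∈ G.charpoly.roots, r ^ k = c) →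
      (∀ r, G.charpoly.rootMultiplicity r ≤ m) → m ≤ p ^ e →
      orderOf (QuotientGroup.mk g : Cfsg.PSp 2 F) ∣ k * p ^ e := by
    intro k m e c h1 h2 h3
    have h4 := CfsgLib.Roots57.pow_eq_scalar G h1 h2 h3
    have h5 : (A ^ (k * p ^ e)).map (algebraMap F K) = c ^ p ^ e • 1 := by
      rw [← h4, hG]
      exact map_pow (algebraMap F K).mapMatrix A _
    obtain ⟨c', hc', -⟩ := CfsgLib.Roots57.scalar_of_map _ h5
    exact orderOf_dvd_of_pow_eq_one ((CfsgLib.SympOrders.mk_pow_eq_one_iff g _).2 ⟨c', hc'⟩)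
  -- the roots
  set R := G.charpoly.roots with hR
  have hcard : Multiset.card R = 4 := by
    rw [hR, (IsAlgClosed.splits G.charpoly).natDegree_eq_card_roots.symm, charpoly_natDegree_eq_dim]
    rfl
  have hM : ∀ r, G.charpoly.rootMultiplicity r = R.count r := fun r => (count_roots _).symm
  have hfr : ∀ r, R.count (r ^ q) = R.count r := fun r => by
    rw [← hM, ← hM, hq, show G.charpoly = A.charpoly.map (algebraMap F K) from
      Matrix.charpoly_map A (algebraMap F K)]
    exact CfsgLib.Roots57.rootMultiplicity_frobenius _ r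
  have hdetA : A.det * A.det = 1 := by
    have h := congrArg Matrix.det (SymplecticGroup.mem_iff.1 g.2)
    rw [det_mul, det_mul, det_transpose, mul_comm A.det, mul_assoc] at h
    exact mul_left_cancel₀ ((Matrix.isUnit_det_J (Fin 2) F).ne_zero) (h.trans (mul_one _).symm)
  have hunit : IsUnit G := by
    rw [Matrix.isUnit_iff_isUnit_det, hG, show (A.map (algebraMap F K)).det = algebraMap F K A.det from
      ((algebraMap F K).map_det A).symm]
    exact (IsUnit.of_mul_eq_one _ hdetA).map _
  have hsymp : G * Matrix.J (Fin 2) K * Gᵀ = Matrix.J (Fin 2) K := by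
    have h1 := congrArg (fun M : Matrix (Fin 2 ⊕ Fin 2) (Fin 2 ⊕ Fin 2) F => M.map (algebraMap F K))
      (SymplecticGroup.mem_iff.1 g.2)
    simp only [Matrix.map_mul, Matrix.transpose_map] at h1
    have hJ : (Matrix.J (Fin 2) F).map (algebraMap F K) = Matrix.J (Fin 2) K := by
      rw [Matrix.J, Matrix.J, Matrix.fromBlocks_map]
      simp [Matrix.map_one, Matrix.map_zero, Matrix.map_neg]
    rw [hJ] at h1
    exact h1
  have hinv : R.map (fun r => r⁻¹) = R := roots_inv G (Matrix.J (Fin 2) K)
    ((Matrix.isUnit_iff_isUnit_det _).2 (Matrix.isUnit_det_J (Fin 2) K)) hsymp hunit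
  have hcinv : ∀ r, R.count r⁻¹ = R.count r := fun r => by
    conv_lhs => rw [← hinv]
    exact Multiset.count_map_eq_count' (fun r : K => r⁻¹) R inv_injective r
  have h0 : ∀ r ∈ R, r ≠ 0 := by
    rintro r hr rfl
    have h := Matrix.det_eq_prod_roots_charpoly_of_splits (IsAlgClosed.splits G.charpoly)
    rw [← hR, Multiset.prod_eq_zero hr] at h
    exact ((Matrix.isUnit_iff_isUnit_det _).1 hunit).ne_zero h
  have hmemq : ∀ r ∈ R, r ^ q ∈ R := fun r hr => by
    rw [← Multiset.count_pos, hfr]
    exact Multiset.count_pos.2 hr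
  have hmeminv : ∀ r ∈ R, r⁻¹ ∈ R := fun r hr => by
    rw [← Multiset.count_pos, hcinv]
    exact Multiset.count_pos.2 hr
  have hle4 : ∀ {a b : K}, a ≠ b → R.count a + R.count b ≤ 4 := by
    intro a b hab
    have h : Multiset.replicate (R.count a) a + Multiset.replicate (R.count b) b ≤ R := by
      rw [Multiset.le_iff_count]
      intro x
      simp only [Multiset.count_add, Multiset.count_replicate]
      split_ifs with h1 h2 h2 <;> subst_vars <;> first | (exact absurd rfl hab) | simp
    have := Multiset.card_le_card h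
    simpa [hcard] using this
  have hpm : ∀ {r : K}, (r = 1 ∨ r = -1) → ∀ {k : ℕ}, (q % 2 = 1 → 2 ∣ k) → r ^ k = 1 := by
    intro r hr k hk
    rcases hr with rfl | rfl
    · exact one_pow k
    · rcases Nat.mod_two_eq_zero_or_one q with h | h
      · have hp2 : p = 2 := by
          obtain ⟨a, -, ha⟩ := FiniteField.card F p
          have h2 : 2 ∣ p ^ (a : ℕ) := by rw [← ha]; exact Nat.dvd_of_mod_eq_zero h
          exact ((Nat.prime_dvd_prime_iff_eq Nat.prime_two Fact.out).1
            (Nat.prime_two.dvd_of_dvd_pow h2)).symm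
        subst hp2
        rw [CharTwo.neg_eq, one_pow]
      · obtain ⟨l, rfl⟩ := hk h
        rw [pow_mul, neg_one_sq, one_pow]
  have hpmq : ∀ {r : K}, (r = 1 ∨ r = -1) → r ^ (q - 1) = 1 ∧ r ^ (q + 1) = 1 := fun hr =>
    ⟨hpm hr (fun h => by omega), hpm hr (fun h => by omega)⟩
  by_cases h3 : ∃ r, 3 ≤ R.count r
  · -- one eigenvalue of multiplicity at least three
    obtain ⟨r, hr⟩ := h3
    have hrR : r ∈ R := Multiset.count_pos.1 (by omega)
    have hrr : r⁻¹ = r := by
      by_contra h
      have := hle4 h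
      rw [hcinv] at this
      omega
    have hcount4 : ∀ x, R.count x ≤ 4 := fun x => hcard ▸ Multiset.count_le_card x R
    have hall : ∀ x ∈ R, x = r ∨ x = -r := by
      intro x hx
      by_cases hxr : x = r
      · exact Or.inl hxr
      have hxx : x⁻¹ = x := by
        by_contra h
        have hxr' : x⁻¹ ≠ r := fun h' => hxr (by rw [← inv_inv x, h', hrr])
        have h1 : Multiset.replicate (R.count r) r + ({x, x⁻¹} : Multiset K) ≤ R := by
          rw [Multiset.le_iff_count]
          intro y
          have e1 : 1 ≤ R.count x := Multiset.count_pos.2 hx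
          have e2 : 1 ≤ R.count x⁻¹ := Multiset.count_pos.2 (hmeminv x hx)
          rw [Multiset.count_add, Multiset.count_replicate]
          by_cases hy : r = y
          · subst hy
            have hno : r ∉ ({x, x⁻¹} : Multiset K) := by simp [Ne.symm hxr, Ne.symm hxr']
            rw [if_pos rfl, Multiset.count_eq_zero.2 hno, add_zero]
          · rw [if_neg hy, zero_add]
            refine Multiset.le_iff_count.1 ((Multiset.le_iff_subset (by simp [Ne.symm h])).2 ?_) y
            intro z hz
            rcases Multiset.mem_cons.1 hz with rfl | hz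
            · exact hx
            · rw [Multiset.mem_singleton.1 hz]; exact hmeminv x hx
        have := Multiset.card_le_card h1
        simp [hcard] at this
        omega
      rcases eq_one_or_neg_one hrr (h0 r hrR) with rfl | rfl <;>
        rcases eq_one_or_neg_one hxx (h0 x hx) with rfl | rfl <;> simp_all
    have hsq : ∀ x ∈ R, x ^ 2 = 1 := fun x hx => by
      have : r = 1 ∨ r = -1 := eq_one_or_neg_one hrr (h0 r hrR)
      rcases hall x hx with rfl | rfl <;> rcases this with rfl | rfl <;> simp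
    have hsame : ∀ x ∈ R, x = r := by
      -- the determinant forbids a single root of the other sign
      intro x hx
      by_contra hne
      have hxr : x = -r := (hall x hx).resolve_left hne
      have hsplit : R = Multiset.replicate (R.count r) r + Multiset.replicate (R.count x) x := by
        ext y
        simp only [Multiset.count_add, Multiset.count_replicate]
        split_ifs with h1 h2 h2
        · exact absurd (h2.trans h1.symm) hne
        · rw [← h1, add_zero]
        · rw [← h2, zero_add]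
        · rw [add_zero, Multiset.count_eq_zero]
          intro hy
          rcases hall y hy with rfl | rfl
          · exact h1 rfl
          · exact h2 hxr
      have hc := congrArg Multiset.card hsplit
      simp only [hcard, Multiset.card_add, Multiset.card_replicate] at hc
      have hx1 : R.count x = 1 := by
        have := Multiset.count_pos.2 hx
        omega
      have hdet : G.det = 1 := by
        have h : A.det = 1 := SymplecticGroup.det_eq_one g.2
        rw [hG, show (A.map (algebraMap F K)).det = algebraMap F K A.det from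
          ((algebraMap F K).map_det A).symm, h, map_one]
      rw [Matrix.det_eq_prod_roots_charpoly_of_splits (IsAlgClosed.splits G.charpoly), ← hR, hsplit,
        Multiset.prod_add, Multiset.prod_replicate, Multiset.prod_replicate, show R.count r = 3 by omega,
        hx1, pow_one] at hdet
      have h2 := hsq r hrR
      rw [pow_succ, h2, one_mul, hxr, mul_neg, ← sq, h2] at hdet
      refine hne ?_
      rw [hxr]
      rcases eq_one_or_neg_one hrr (h0 r hrR) with rfl | rfl <;> simp [hdet]
    have hroot : ∀ x ∈ R, x ^ 1 = r := fun x hx => by rw [pow_one, hsame x hx]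
    have hm : ∀ x, G.charpoly.rootMultiplicity x ≤ 4 := fun x => by rw [hM]; exact hcount4 x
    by_cases hp3 : p ≤ 3
    · refine Or.inr (Or.inr (Or.inr (Or.inr ⟨hp3, ?_⟩)))
      have := hdvd (e := 2) hroot hm (by
        have := (Fact.out : p.Prime).two_le
        calc 4 = 2 ^ 2 := rfl
          _ ≤ p ^ 2 := Nat.pow_le_pow_left this 2)
      rwa [one_mul] at this
    · refine Or.inr (Or.inr (Or.inl ?_))
      have := hdvd (e := 1) hroot hm (by rw [pow_one]; omega)
      rw [one_mul, pow_one] at this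
      exact this.trans (dvd_mul_right p _)
  · simp only [not_exists, not_le] at h3
    by_cases hall : ∀ r ∈ R, r ^ (q - 1) = 1 ∨ r ^ (q + 1) = 1
    · by_cases h2 : ∃ r, 2 ≤ R.count r
      · obtain ⟨r, hr⟩ := h2
        have hrR : r ∈ R := Multiset.count_pos.1 (by omega)
        have hm : ∀ x, G.charpoly.rootMultiplicity x ≤ 2 := fun x => by
          rw [hM]; have := h3 x; omega
        have hp1 : 2 ≤ p ^ 1 := by rw [pow_one]; exact (Fact.out : p.Prime).two_le
        -- an element `s` with all roots in `{±1, s, s⁻¹}`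
        obtain ⟨s, hsR, hs⟩ : ∃ s ∈ R, ∀ x ∈ R, (x = 1 ∨ x = -1) ∨ x = s ∨ x = s⁻¹ := by
          by_cases hns : ∀ x ∈ R, x⁻¹ = x
          · exact ⟨r, hrR, fun x hx => Or.inl (eq_one_or_neg_one (hns x hx) (h0 x hx))⟩
          obtain ⟨s, hsR, hs⟩ : ∃ s ∈ R, s⁻¹ ≠ s := by
            simpa using hns
          refine ⟨s, hsR, fun x hx => ?_⟩
          by_contra hx'
          simp only [not_or] at hx'
          obtain ⟨⟨hxone, hxneg⟩, hxs, hxs'⟩ := hx'
          have hxx : x⁻¹ ≠ x := fun h =>
            (eq_one_or_neg_one h (h0 x hx)).elim hxone hxneg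
          have n1 : x⁻¹ ≠ s := fun h => hxs' (by rw [← h, inv_inv])
          have n2 : x⁻¹ ≠ s⁻¹ := fun h => hxs (inv_injective h)
          have hnd : ({x, x⁻¹, s, s⁻¹} : Multiset K).Nodup := by
            simp [Ne.symm hxx, hxs, hxs', n1, n2, Ne.symm hs]
          have h4 : ({x, x⁻¹, s, s⁻¹} : Multiset K) = R := by
            refine Multiset.eq_of_le_of_card_le ((Multiset.le_iff_subset hnd).2 fun y hy => ?_) (by simp [hcard])
            simp only [Multiset.insert_eq_cons, Multiset.mem_cons, Multiset.mem_singleton] at hy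
            rcases hy with rfl | rfl | rfl | rfl
            exacts [hx, hmeminv _ hx, hsR, hmeminv _ hsR]
          rw [h4] at hnd
          have := Multiset.nodup_iff_count_le_one.1 hnd r
          omega
        rcases hall s hsR with h | h
        · refine Or.inr (Or.inr (Or.inl ?_))
          have := hdvd (k := q - 1) (c := 1) (e := 1) (fun x hx => by
            rcases hs x hx with h' | rfl | rfl
            · exact (hpmq h').1
            · exact h
            · rw [inv_pow, h, inv_one]) hm hp1
          rwa [pow_one, mul_comm] at this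
        · refine Or.inr (Or.inr (Or.inr (Or.inl ?_)))
          have := hdvd (k := q + 1) (c := 1) (e := 1) (fun x hx => by
            rcases hs x hx with h' | rfl | rfl
            · exact (hpmq h').2
            · exact h
            · rw [inv_pow, h, inv_one]) hm hp1
          rwa [pow_one, mul_comm] at this
      · simp only [not_exists, not_le] at h2
        refine Or.inr (Or.inl ?_)
        have := hdvd (c := 1) (m := 1) (e := 0) (fun x hx => pow_sq_minus (by omega) (hall x hx))
          (fun x => by rw [hM]; have := h2 x; omega) (by rw [pow_zero])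
        rwa [pow_zero, mul_one] at this
    · -- four distinct conjugate roots
      simp only [not_forall, not_or] at hall
      obtain ⟨r, hrR, hr1, hr2⟩ := hall
      have hr0 : r ≠ 0 := h0 r hrR
      have hrq0 : r ^ q ≠ 0 := pow_ne_zero _ hr0
      have nq1 : r ^ q ≠ r := by
        intro h
        apply hr1
        conv_lhs at h => rw [show q = q - 1 + 1 by omega, pow_succ]
        exact mul_right_cancel₀ hr0 (h.trans (one_mul r).symm)
      have nq2 : r ^ q ≠ r⁻¹ := fun h => hr2 (by rw [pow_succ, h, inv_mul_cancel₀ hr0])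
      have n3 : r⁻¹ ≠ r := fun h => by
        rcases eq_one_or_neg_one h hr0 with h' | h'
        · exact hr1 (hpmq (Or.inl h')).1
        · exact hr1 (hpmq (Or.inr h')).1
      have hinjq : ∀ {a b : K}, a ^ q = b ^ q → a = b := fun {a b} h =>
        (FiniteField.frobeniusAlgHom F K).toRingHom.injective h
      have n4 : (r ^ q)⁻¹ ≠ r ^ q := by
        intro h
        rw [← inv_pow] at h
        exact n3 (hinjq h)
      have m1 : (r ^ q)⁻¹ ≠ r := fun h => nq2 (by rw [← inv_inv (r ^ q), h])
      have m2 : (r ^ q)⁻¹ ≠ r⁻¹ := fun h => nq1 (inv_injective h)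
      have hnd : ({r, r⁻¹, r ^ q, (r ^ q)⁻¹} : Multiset K).Nodup := by
        simp only [Multiset.insert_eq_cons, Multiset.nodup_cons, Multiset.mem_cons, Multiset.mem_singleton,
          Multiset.nodup_singleton, and_true, not_or]
        exact ⟨⟨n3.symm, nq1.symm, m1.symm⟩, ⟨nq2.symm, m2.symm⟩, n4.symm⟩
      have h4 : ({r, r⁻¹, r ^ q, (r ^ q)⁻¹} : Multiset K) = R := by
        refine Multiset.eq_of_le_of_card_le ((Multiset.le_iff_subset hnd).2 fun y hy => ?_) (by simp [hcard])
        simp only [Multiset.insert_eq_cons, Multiset.mem_cons, Multiset.mem_singleton] at hy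
        rcases hy with rfl | rfl | rfl | rfl
        exacts [hrR, hmeminv _ hrR, hmemq _ hrR, hmeminv _ (hmemq _ hrR)]
      have hm : ∀ x, G.charpoly.rootMultiplicity x ≤ 1 := fun x => by
        rw [hM, ← h4]
        exact Multiset.nodup_iff_count_le_one.1 hnd x
      have hqq : r ^ (q * q) = r ∨ r ^ (q * q) = r⁻¹ := by
        have h := hmemq _ (hmemq r hrR)
        rw [← pow_mul, ← h4] at h
        simp only [Multiset.insert_eq_cons, Multiset.mem_cons, Multiset.mem_singleton] at h
        rcases h with h | h | h | h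
        · exact Or.inl h
        · exact Or.inr h
        · rw [pow_mul] at h
          exact absurd (hinjq h) nq1
        · rw [pow_mul, ← inv_pow] at h
          exact absurd (hinjq h) nq2
      -- all roots have the same half power
      have key : ∀ N : ℕ, (q % 2 = 1 → 2 ∣ N) → r ^ N = 1 →
          orderOf (QuotientGroup.mk g : Cfsg.PSp 2 F) ∣ N / Nat.gcd 2 (q - 1) := by
        intro N hN h1
        set c := r ^ (N / Nat.gcd 2 (q - 1)) with hc
        have hc1 : c = 1 ∨ c = -1 := by
          have h := half_sq (by omega) hN h1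
          rw [← hc] at h
          rcases gcd_cases (q := q) (by omega) with ⟨-, hd⟩ | ⟨-, hd⟩ <;> rw [hd] at h
          · exact sq_eq_one_iff.1 h
          · exact Or.inl (by rwa [pow_one] at h)
        have hcq : c ^ q = c := by
          rw [show q = q - 1 + 1 by omega, pow_succ, (hpmq hc1).1, one_mul]
        have hci : c⁻¹ = c := by rcases hc1 with h | h <;> rw [h] <;> simp [inv_neg]
        have := hdvd (k := N / Nat.gcd 2 (q - 1)) (c := c) (m := 1) (e := 0) (fun x hx => by
          rw [← h4] at hx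
          simp only [Multiset.insert_eq_cons, Multiset.mem_cons, Multiset.mem_singleton] at hx
          rcases hx with rfl | rfl | rfl | rfl
          · rfl
          · rw [inv_pow, ← hc, hci]
          · rw [← pow_mul, mul_comm, pow_mul, ← hc, hcq]
          · rw [inv_pow, ← pow_mul, mul_comm, pow_mul, ← hc, hcq, hci]) hm (by rw [pow_zero])
        rwa [pow_zero, mul_one] at this
      have hqq1 : 1 ≤ q * q := Nat.one_le_iff_ne_zero.2 (by positivity)
      rcases hqq with h | h
      · refine Or.inr (Or.inl ?_)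
        rw [sq]
        refine key _ (fun h' => ?_) ?_
        · have : (q * q) % 2 = 1 := by rw [Nat.mul_mod, h']
          omega
        · have : r ^ (q * q - 1) * r = 1 * r := by rw [← pow_succ, Nat.sub_add_cancel hqq1, h, one_mul]
          exact mul_right_cancel₀ hr0 this
      · refine Or.inl ?_
        rw [sq]
        refine key _ (fun h' => ?_) ?_
        · have : (q * q) % 2 = 1 := by rw [Nat.mul_mod, h']
          omega
        · rw [pow_succ, h, inv_mul_cancel₀ hr0]

theorem order_mem (p : ℕ) [Fact p.Prime] [CharP F p] (g : Cfsg.PSp 2 F) :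
    orderOf g ∈ spec p (Fintype.card F) := order_mem_aux (K := AlgebraicClosure F) p g

end Upper

section Lower

variable {F : Type*} [Field F] [Fintype F]

theorem exists_order (p : ℕ) [Fact p.Prime] [CharP F p] {m : ℕ} (hm : m ∈ spec p (Fintype.card F)) :
    ∃ x : Cfsg.PSp 2 F, orderOf x = m := by
  classical
  set q := Fintype.card F with hq
  have hq2 : 2 ≤ q := Fintype.one_lt_card
  suffices ∃ x : Cfsg.PSp 2 F, m ∣ orderOf x by
    obtain ⟨x, hx⟩ := this
    exact ⟨x ^ (orderOf x / m), orderOf_pow_orderOf_div (orderOf_pos x).ne' hx⟩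
  have hp : p.Prime := Fact.out
  obtain ⟨a, -, hcard⟩ := FiniteField.card F p
  have hpq : p ∣ q := by rw [hq, hcard]; exact dvd_pow_self p a.ne_zero
  have half : ∀ N : ℕ, (q % 2 = 1 → 2 ∣ N) → ∀ z : Matrix.symplecticGroup (Fin 2) F, orderOf z = N →
      N / Nat.gcd 2 (q - 1) ∣ orderOf (QuotientGroup.mk z : Cfsg.PSp 2 F) := by
    intro N hN z hz
    rcases gcd_cases (q := q) (by omega) with ⟨h1, hd⟩ | ⟨h1, hd⟩ <;> rw [hd]
    · exact CfsgLib.SympOrders.half_dvd_orderOf (by norm_num) z hz (even_iff_two_dvd.2 (hN h1))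
    · rw [Nat.div_one, ← hz]
      obtain ⟨c, hc⟩ := (CfsgLib.SympOrders.mk_pow_eq_one_iff z _).1
        (pow_orderOf_eq_one (QuotientGroup.mk z : Cfsg.PSp 2 F))
      rw [← SubmonoidClass.coe_pow] at hc
      have hcc := CfsgLib.SympOrders.scalar_sq (by norm_num) hc
      have hp2 : p = 2 := by
        have h2 : 2 ∣ p ^ (a : ℕ) := by rw [← hcard, ← hq]; exact Nat.dvd_of_mod_eq_zero h1
        exact ((Nat.prime_dvd_prime_iff_eq Nat.prime_two hp).1 (Nat.prime_two.dvd_of_dvd_pow h2)).symm
      subst hp2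
      have hc1 : c = 1 := by
        rcases mul_self_eq_one_iff.1 hcc with h | h
        · exact h
        · rw [h, CharTwo.neg_eq]
      rw [hc1, one_smul] at hc
      exact orderOf_dvd_of_pow_eq_one (Subtype.ext hc)
  obtain ⟨-, h | h | h | h | ⟨hp3, h⟩⟩ := hm
  · obtain ⟨z, hz⟩ := CfsgLib.SympOrders.exists_torus_plus (F := F) (j := 2) (p := p) (by norm_num)
    refine ⟨QuotientGroup.mk z, h.trans (half _ (fun h' => ?_) z hz)⟩
    have : (q * q) % 2 = 1 := by rw [Nat.mul_mod, h']
    rw [sq]; omega
  · obtain ⟨z, hz⟩ := CfsgLib.SympOrders.exists_torus_minus (F := F) (j := 2) (p := p) (by norm_num)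
    refine ⟨QuotientGroup.mk z, h.trans (half _ (fun h' => ?_) z hz)⟩
    have : (q * q) % 2 = 1 := by rw [Nat.mul_mod, h']
    rw [sq]; omega
  · obtain ⟨z, hz⟩ := CfsgLib.SympOrders.exists_torus_minus (F := F) (j := 1) (p := p) le_rfl
    rw [pow_one] at hz
    obtain ⟨x, hx1, hx2⟩ := CfsgLib.SympOrders.exists_block (l := 1) (t := 1) (p := p) le_rfl le_rfl z hz
      (fun _ => by norm_num)
    refine ⟨x, h.trans (Nat.Coprime.mul_dvd_of_dvd_of_dvd ?_ (by simpa using hx2) hx1)⟩
    refine (hp.coprime_iff_not_dvd).2 fun hd => hp.not_dvd_one ?_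
    have := Nat.dvd_sub hpq hd
    rwa [Nat.sub_sub_self (by omega)] at this
  · obtain ⟨z, hz⟩ := CfsgLib.SympOrders.exists_torus_plus (F := F) (j := 1) (p := p) le_rfl
    rw [pow_one] at hz
    obtain ⟨x, hx1, hx2⟩ := CfsgLib.SympOrders.exists_block (l := 1) (t := 1) (p := p) le_rfl le_rfl z hz
      (fun _ => by norm_num)
    refine ⟨x, h.trans (Nat.Coprime.mul_dvd_of_dvd_of_dvd ?_ (by simpa using hx2) hx1)⟩
    exact (hp.coprime_iff_not_dvd).2 fun hd => hp.not_dvd_one ((Nat.dvd_add_right hpq).1 hd)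
  · obtain ⟨u, ⟨r, hr⟩, hu⟩ := CfsgLib.SympOrders.exists_regular_unipotent (F := F) (n := 2) (by norm_num)
    refine ⟨QuotientGroup.mk u, h.trans ?_⟩
    set o := orderOf (QuotientGroup.mk u : Cfsg.PSp 2 F)
    obtain ⟨c, hc⟩ := (CfsgLib.SympOrders.mk_pow_eq_one_iff u o).1 (pow_orderOf_eq_one _)
    set U := (u : Matrix (Fin 2 ⊕ Fin 2) (Fin 2 ⊕ Fin 2) F) with hU
    have hbig : U ^ p ^ r = 1 := by
      have hle : r ≤ p ^ r := (Nat.lt_pow_self hp.one_lt).le
      have : (U - 1) ^ p ^ r = 0 := by rw [← Nat.sub_add_cancel hle, pow_add, hr, mul_zero]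
      rwa [sub_pow_char_pow_of_commute (p := p) (h := Commute.one_right _), one_pow, sub_eq_zero] at this
    have hc1 : c = 1 := by
      have h2 := congrArg (· ^ p ^ r) hc
      rw [← pow_mul, mul_comm, pow_mul, hbig, one_pow, _root_.smul_pow, one_pow] at h2
      have h3 : c ^ p ^ r = 1 := by
        simpa using (congrFun (congrFun h2 (Sum.inl 0)) (Sum.inl 0)).symm
      have h4 : (c - 1) ^ p ^ r = 0 := by rw [sub_pow_char_pow, h3, one_pow, sub_self]
      exact sub_eq_zero.mp (pow_eq_zero_iff (pow_ne_zero _ hp.ne_zero) |>.mp h4)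
    rw [hc1, one_smul] at hc
    have hdvd : orderOf U ∣ o := orderOf_dvd_of_pow_eq_one hc
    refine Dvd.dvd.trans ?_ hdvd
    obtain ⟨i, -, hi⟩ := (Nat.dvd_prime_pow hp).1 (orderOf_dvd_of_pow_eq_one hbig)
    rw [hi]
    refine pow_dvd_pow _ ?_
    by_contra hlt
    have h5 : U ^ p ^ 1 = 1 := orderOf_dvd_iff_pow_eq_one.1 (hi ▸ pow_dvd_pow _ (by omega))
    refine hu (p ^ 1) (by rw [pow_one]; omega) ?_
    rw [sub_pow_char_pow_of_commute (p := p) (h := Commute.one_right _), h5, one_pow, sub_self]

/-- The element orders of `PSp(4,q)`. -/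
theorem range_orderOf (p : ℕ) [Fact p.Prime] [CharP F p] :
    Set.range (orderOf : Cfsg.PSp 2 F → ℕ) = spec p (Fintype.card F) :=
  Set.Subset.antisymm (by rintro _ ⟨g, rfl⟩; exact order_mem p g) fun _ hm => exists_order p hm

end Lower

end CfsgLib.PSpFour
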