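import Mathlib

set_option autoImplicit false

/-!
Powers of a matrix in `SL(2)` whose trace lies in a subfield.
-/

open Polynomial Matrix

namespace CfsgLib.SLTwoScalar57

variable {F : Type*} [Field F]

/-- Cayley-Hamilton in dimension two, determinant one. -/
theorem cayley (g : SpecialLinearGroup (Fin 2) F) :
    (g : Matrix (Fin 2) (Fin 2) F) * g = (g : Matrix (Fin 2) (Fin 2) F).trace • (g : Matrix (Fin 2) (Fin 2) F) - 1 := by
  have h := g.2
  rw [det_fin_two] at h
  ext i j
  fin_cases i <;> fin_cases j <;>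
    simp [mul_apply, trace_fin_two, Fin.sum_univ_two] <;> first | ring1 | linear_combination h | linear_combination -h

/-- Either `g` is `±` unipotent, or half of `s - 1` or of `s + 1` sends it to `±1`, when the trace is
fixed by `x ↦ x ^ s`. -/
theorem unipotent_or_scalar (p : ℕ) [Fact p.Prime] [CharP F p] (a : ℕ) (ha : 0 < a)
    (g : SpecialLinearGroup (Fin 2) F)
    (hts : (g : Matrix (Fin 2) (Fin 2) F).trace ^ p ^ a = (g : Matrix (Fin 2) (Fin 2) F).trace) :
    (∃ ε : F, ε * ε = 1 ∧ ((g : Matrix (Fin 2) (Fin 2) F) - ε • 1) ^ 2 = 0) ∨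
    ∃ c : F, c * c = 1 ∧
      ((g : Matrix (Fin 2) (Fin 2) F) ^ ((p ^ a - 1) / Nat.gcd 2 (p ^ a - 1)) = c • 1 ∨
        (g : Matrix (Fin 2) (Fin 2) F) ^ ((p ^ a + 1) / Nat.gcd 2 (p ^ a - 1)) = c • 1) := by
  classical
  set t := (g : Matrix (Fin 2) (Fin 2) F).trace with ht
  let K := AlgebraicClosure F
  haveI : CharP K p := charP_of_injective_algebraMap (algebraMap F K).injective p
  set s := p ^ a with hs
  have hs2 : 2 ≤ s := le_trans (Fact.out : p.Prime).two_le (Nat.le_self_pow ha.ne' p)
  obtain ⟨r, hr⟩ := IsAlgClosed.exists_root (C (1 : K) * X ^ 2 + C (-(algebraMap F K t)) * X + C 1)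
    (by rw [degree_quadratic one_ne_zero]; decide)
  rw [IsRoot, eval_add, eval_add, eval_mul, eval_mul, eval_pow, eval_X] at hr
  simp only [eval_C] at hr
  have hr0 : r ≠ 0 := by rintro rfl; simp at hr
  have hsum : algebraMap F K t = r + r⁻¹ := by
    apply mul_right_cancel₀ hr0
    rw [add_mul, inv_mul_cancel₀ hr0]
    linear_combination -hr
  by_cases hrr : r⁻¹ = r
  · left
    have hr1 : r = 1 ∨ r = -1 :=
      mul_self_eq_one_iff.1 (by nth_rewrite 1 [← hrr]; exact inv_mul_cancel₀ hr0)
    obtain ⟨ε, hε, hεr⟩ : ∃ ε : F, ε * ε = 1 ∧ algebraMap F K ε = r := by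
      rcases hr1 with h | h
      · exact ⟨1, one_mul 1, by rw [map_one, h]⟩
      · exact ⟨-1, by norm_num, by rw [map_neg, map_one, h]⟩
    have ht2 : t = 2 * ε := (algebraMap F K).injective (by rw [map_mul, hεr, map_ofNat, hsum, hrr, two_mul])
    refine ⟨ε, hε, ?_⟩
    rw [sq, sub_mul, mul_sub, mul_sub, cayley g, ← ht, ht2]
    simp only [smul_mul_assoc, mul_smul_comm, one_mul, mul_one, smul_smul, hε, one_smul]
    module
  · right
    have hfr : r ^ s = r ∨ r ^ s = r⁻¹ := by
      have h := congrArg (· ^ p ^ a) hr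
      simp only [add_pow_char_pow, mul_pow, one_pow, one_mul, zero_pow (pow_ne_zero a (Fact.out : p.Prime).ne_zero)] at h
      rw [show ((-(algebraMap F K t)) ^ p ^ a : K) = -(algebraMap F K t) by
        rw [← map_neg, ← map_pow]
        congr 1
        have := sub_pow_char_pow (R := F) (p := p) (n := a) 0 t
        rwa [zero_sub, zero_pow (pow_ne_zero a (Fact.out : p.Prime).ne_zero), zero_sub, hts] at this,
        pow_right_comm r 2, hsum] at h
      have h2 : (r ^ s - r) * (r ^ s - r⁻¹) = 0 := by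
        rw [hs]
        linear_combination h + mul_inv_cancel₀ hr0
      rcases mul_eq_zero.1 h2 with h3 | h3
      · exact Or.inl (sub_eq_zero.1 h3)
      · exact Or.inr (sub_eq_zero.1 h3)
    have hd : (s % 2 = 1 ∧ Nat.gcd 2 (s - 1) = 2) ∨ (s % 2 = 0 ∧ Nat.gcd 2 (s - 1) = 1) := by
      rcases Nat.mod_two_eq_zero_or_one s with h | h
      · exact Or.inr ⟨h, (Nat.prime_two.coprime_iff_not_dvd).2 (by omega)⟩
      · exact Or.inl ⟨h, Nat.gcd_eq_left (by omega)⟩
    have key : ∀ N : ℕ, (s % 2 = 1 → 2 ∣ N) → r ^ N = 1 →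
        ∃ c : F, c * c = 1 ∧ (g : Matrix (Fin 2) (Fin 2) F) ^ (N / Nat.gcd 2 (s - 1)) = c • 1 := by
      intro N hN h1
      set k := N / Nat.gcd 2 (s - 1) with hk
      have hc1 : r ^ k = 1 ∨ r ^ k = -1 := by
        rcases hd with ⟨ho, h2⟩ | ⟨-, h2⟩ <;> rw [hk, h2]
        · refine sq_eq_one_iff.1 ?_
          rw [← pow_mul, Nat.div_mul_cancel (hN ho), h1]
        · exact Or.inl (by rw [Nat.div_one, h1])
      obtain ⟨c, hc, hcr⟩ : ∃ c : F, c * c = 1 ∧ algebraMap F K c = r ^ k := by
        rcases hc1 with h | h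
        · exact ⟨1, one_mul 1, by rw [map_one, h]⟩
        · exact ⟨-1, by norm_num, by rw [map_neg, map_one, h]⟩
      refine ⟨c, hc, ?_⟩
      have hdvd : (X - C r) * (X - C r⁻¹) ∣ X ^ k - C (algebraMap F K c) := by
        refine IsCoprime.mul_dvd (isCoprime_X_sub_C_of_isUnit_sub (sub_ne_zero.2 (Ne.symm hrr)).isUnit) ?_ ?_
        · rw [dvd_iff_isRoot, IsRoot, eval_sub, eval_pow, eval_X, eval_C, hcr, sub_self]
        · rw [dvd_iff_isRoot, IsRoot, eval_sub, eval_pow, eval_X, eval_C, hcr, inv_pow]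
          rcases hc1 with h | h <;> rw [h] <;> simp
      obtain ⟨f, hf⟩ := hdvd
      set G := (g : Matrix (Fin 2) (Fin 2) F).map (algebraMap F K) with hG
      have hquad : aeval G ((X - C r) * (X - C r⁻¹)) = 0 := by
        have hC := congrArg (fun M : Matrix (Fin 2) (Fin 2) F => M.map (algebraMap F K)) (cayley g)
        simp only [Matrix.map_mul, Matrix.map_sub _ (map_sub (algebraMap F K)), Matrix.map_smul' _ _ _ (map_mul (algebraMap F K)),
          Matrix.map_one _ (map_zero (algebraMap F K)) (map_one (algebraMap F K)), ← hG, ← ht, hsum] at hC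
        rw [map_mul, map_sub, map_sub, aeval_X, aeval_C, aeval_C, Algebra.algebraMap_eq_smul_one,
          Algebra.algebraMap_eq_smul_one, sub_mul, mul_sub, mul_sub, hC]
        simp only [smul_mul_assoc, mul_smul_comm, one_mul, mul_one, smul_smul, inv_mul_cancel₀ hr0,
          mul_inv_cancel₀ hr0, one_smul]
        module
      have h3 := congrArg (aeval G) hf
      rw [map_mul, hquad, zero_mul, map_sub, map_pow, aeval_X, aeval_C, Algebra.algebraMap_eq_smul_one,
        sub_eq_zero] at h3
      refine Matrix.map_injective (algebraMap F K).injective ?_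
      beta_reduce
      rw [Matrix.map_smul' _ _ _ (map_mul (algebraMap F K)),
        Matrix.map_one _ (map_zero (algebraMap F K)) (map_one (algebraMap F K))]
      exact (map_pow (algebraMap F K).mapMatrix _ _).trans h3
    rcases hfr with h | h
    · obtain ⟨c, hc, h'⟩ := key (s - 1) (fun _ => by omega) (by
        apply mul_right_cancel₀ hr0
        rw [← pow_succ, Nat.sub_add_cancel (by omega), h, one_mul])
      exact ⟨c, hc, Or.inl h'⟩
    · obtain ⟨c, hc, h'⟩ := key (s + 1) (fun _ => by omega) (by rw [pow_succ, h, inv_mul_cancel₀ hr0])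
      exact ⟨c, hc, Or.inr h'⟩

/-- If `g X C = X` for a matrix `X ≠ 0` and `C` in `SL(2)`, the two traces agree. -/
theorem trace_eq_of_fixed (g C : SpecialLinearGroup (Fin 2) F) {X : Matrix (Fin 2) (Fin 2) F} (hX : X ≠ 0)
    (h : (g : Matrix (Fin 2) (Fin 2) F) * X * C = X) :
    (g : Matrix (Fin 2) (Fin 2) F).trace = (C : Matrix (Fin 2) (Fin 2) F).trace := by
  set G := (g : Matrix (Fin 2) (Fin 2) F) with hG
  set D := (C : Matrix (Fin 2) (Fin 2) F) with hD
  have e : G * G * X * (D * D) = X := by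
    calc G * G * X * (D * D) = G * (G * X * D) * D := by simp only [mul_assoc]
      _ = X := by rw [h, h]
  have e1 : G * G * X * D = G * X := by
    calc G * G * X * D = G * (G * X * D) := by simp only [mul_assoc]
      _ = G * X := by rw [h]
  rw [hD, cayley C, ← hD, mul_sub, mul_smul_comm, mul_one, e1, hG, cayley g, ← hG] at e
  rw [sub_mul, smul_mul_assoc, one_mul] at e
  have h2 : (D.trace - G.trace) • (G * X) = 0 := by
    rw [← sub_eq_zero.2 e]
    module
  rcases smul_eq_zero.1 h2 with h3 | h3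
  · exact (sub_eq_zero.1 h3).symm
  · exact absurd (by rw [← h, h3, zero_mul]) hX

end CfsgLib.SLTwoScalar57
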