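import Mathlib
import Cfsg.Agent.Isospectral57.PSpFourOrders
import Cfsg.Agent.Isospectral57.Affine
import Cfsg.Agent.Isospectral57.SLTwoScalar

set_option autoImplicit false

/-!
`V ⋊ SL(2,q²)` and `V ⋊ (SL(2,q²).2)` acting on `2 × 2` matrices by `X ↦ g X σ(g)ᵀ`: their element
orders are those of `PSp(4,q)` when `q` is even, resp. a power of a prime `p ≥ 5`.
-/

open Matrix

namespace CfsgLib.Hermitian57

open CfsgLib.Affine57 CfsgLib.PSpFour

variable (F E : Type*) [Field F] [Fintype F] [Field E] [Fintype E] [Algebra F E]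

/-- The Frobenius map of `E` over `F`. -/
def sig : E →+* E := (FiniteField.frobeniusAlgHom F E).toRingHom

theorem sig_apply (x : E) : sig F E x = x ^ Fintype.card F := rfl

/-- The action of `SL(2,E)` on matrices, as endomorphisms. -/
def rhoEnd : SpecialLinearGroup (Fin 2) E →* AddMonoid.End (Matrix (Fin 2) (Fin 2) E) where
  toFun g := AddMonoidHom.mk'
    (fun X => (g : Matrix (Fin 2) (Fin 2) E) * X * ((g : Matrix (Fin 2) (Fin 2) E).map (sig F E))ᵀ)
    (fun X Y => by rw [mul_add, add_mul])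
  map_one' := by
    refine DFunLike.ext _ _ fun X => ?_
    show (1 : Matrix (Fin 2) (Fin 2) E) * X * ((1 : Matrix (Fin 2) (Fin 2) E).map (sig F E))ᵀ = X
    rw [Matrix.map_one _ (map_zero _) (map_one _), transpose_one, one_mul, mul_one]
  map_mul' g h := by
    refine DFunLike.ext _ _ fun X => ?_
    show ((g : Matrix (Fin 2) (Fin 2) E) * (h : Matrix (Fin 2) (Fin 2) E)) * X *
        (((g : Matrix (Fin 2) (Fin 2) E) * (h : Matrix (Fin 2) (Fin 2) E)).map (sig F E))ᵀ =
      (g : Matrix (Fin 2) (Fin 2) E) * ((h : Matrix (Fin 2) (Fin 2) E) * X *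
        ((h : Matrix (Fin 2) (Fin 2) E).map (sig F E))ᵀ) * ((g : Matrix (Fin 2) (Fin 2) E).map (sig F E))ᵀ
    rw [Matrix.map_mul, transpose_mul]
    simp only [mul_assoc]

/-- The action of `SL(2,E)`. -/
def rho : SpecialLinearGroup (Fin 2) E →* (AddMonoid.End (Matrix (Fin 2) (Fin 2) E))ˣ :=
  (rhoEnd F E).toHomUnits

theorem app_rho (g : SpecialLinearGroup (Fin 2) E) (X : Matrix (Fin 2) (Fin 2) E) :
    app (rho F E g) X =
      (g : Matrix (Fin 2) (Fin 2) E) * X * ((g : Matrix (Fin 2) (Fin 2) E).map (sig F E))ᵀ := rfl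

variable {F E}

theorem rho_of_scalar {g : SpecialLinearGroup (Fin 2) E} {c : E} (hc : c * c = 1)
    (h : (g : Matrix (Fin 2) (Fin 2) E) = c • 1) : rho F E g = 1 := by
  refine Units.ext (DFunLike.ext _ _ fun X => ?_)
  show (g : Matrix (Fin 2) (Fin 2) E) * X * ((g : Matrix (Fin 2) (Fin 2) E).map (sig F E))ᵀ = X
  have hcs : sig F E c = c := by
    rcases mul_self_eq_one_iff.1 hc with rfl | rfl <;> simp
  rw [h, Matrix.map_smul' _ _ _ (map_mul (sig F E)), Matrix.map_one _ (map_zero _) (map_one _), hcs,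
    transpose_smul, transpose_one, smul_mul_assoc, one_mul, mul_smul_comm, mul_one, smul_smul, hc, one_smul]

theorem rho_pow_of_scalar {g : SpecialLinearGroup (Fin 2) E} {c : E} {k : ℕ} (hc : c * c = 1)
    (h : (g : Matrix (Fin 2) (Fin 2) E) ^ k = c • 1) : rho F E g ^ k = 1 := by
  rw [← map_pow]
  exact rho_of_scalar hc ((Matrix.SpecialLinearGroup.coe_pow g k).trans h)

/-- The kernel consists of involutions. -/
theorem sq_eq_one_of_rho {g : SpecialLinearGroup (Fin 2) E} (h : rho F E g = 1) : g * g = 1 := by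
  set G := (g : Matrix (Fin 2) (Fin 2) E) with hG
  set D := (G.map (sig F E))ᵀ with hD
  have e : ∀ X, G * X * D = X := fun X => by
    have := congrArg (fun f => app f X) h
    exact this
  have e1 : D * G = 1 := mul_eq_one_comm.1 (by simpa using e 1)
  have e2 : ∀ X, G * X = X * G := fun X => by
    calc G * X = G * X * (D * G) := by rw [e1, mul_one]
      _ = X * G := by rw [← mul_assoc, e]
  have a1 := congrFun (congrFun (e2 !![0, 1; 0, 0]) 0) 1
  have a2 := congrFun (congrFun (e2 !![0, 1; 0, 0]) 1) 1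
  have a3 := congrFun (congrFun (e2 !![0, 0; 1, 0]) 0) 0
  simp [mul_apply, Fin.sum_univ_two] at a1 a2 a3
  have hdet := g.2
  rw [det_fin_two, ← hG, a2, a3, ← a1] at hdet
  apply Subtype.ext
  show G * G = 1
  ext i j
  fin_cases i <;> fin_cases j <;>
    simp [mul_apply, Fin.sum_univ_two, a2, a3, ← a1] <;> linear_combination hdet

/-- The order of a lift, when a power is unipotent. -/
theorem pow_char_of_unipotent (p : ℕ) [Fact p.Prime] [CharP E p] {g : SpecialLinearGroup (Fin 2) E} {ε : E}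
    (hε : ε * ε = 1) (h : ((g : Matrix (Fin 2) (Fin 2) E) - ε • 1) ^ 2 = 0) : rho F E g ^ p = 1 := by
  refine rho_pow_of_scalar (c := ε ^ p) (by rw [← mul_pow, hε, one_pow]) ?_
  have h' : ((g : Matrix (Fin 2) (Fin 2) E) - ε • 1) ^ p = 0 :=
    pow_eq_zero_of_le (Fact.out : p.Prime).two_le h
  rwa [sub_pow_char_of_commute (p := p) (h := (Commute.one_right _).smul_right ε), _root_.smul_pow,
    one_pow, sub_eq_zero] at h'

omit [Fintype E] in
theorem sums (p : ℕ) [Fact p.Prime] [CharP E p] (hp : 5 ≤ p) :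
    (∑ i ∈ Finset.range p, (i : E)) = 0 ∧ (∑ i ∈ Finset.range p, (i : E) * i) = 0 := by
  have hp0 : (p : E) = 0 := CharP.cast_eq_zero E p
  have h1 : ∀ n : ℕ, 2 * (∑ i ∈ Finset.range n, (i : E)) = n * (n - 1) := by
    intro n
    induction n with
    | zero => simp
    | succ n ih =>
      rw [Finset.sum_range_succ, mul_add, ih]
      push_cast
      ring
  have h2 : ∀ n : ℕ, 6 * (∑ i ∈ Finset.range n, (i : E) * i) = n * (n - 1) * (2 * n - 1) := by
    intro n
    induction n with
    | zero => simp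
    | succ n ih =>
      rw [Finset.sum_range_succ, mul_add, ih]
      push_cast
      ring
  have hn : ∀ m : ℕ, ¬ p ∣ m → (m : E) ≠ 0 := fun m hm h => hm ((CharP.cast_eq_zero_iff E p m).1 h)
  have e1 := h1 p
  have e2 := h2 p
  rw [hp0, zero_mul] at e1
  rw [hp0, zero_mul, zero_mul] at e2
  refine ⟨(mul_eq_zero.1 e1).resolve_left ?_, (mul_eq_zero.1 e2).resolve_left ?_⟩
  · have h := hn 2 (fun h => by have := Nat.le_of_dvd (by norm_num) h; omega)
    simpa using h
  · have h := hn 6 (fun h => by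
      have h6 := Nat.le_of_dvd (by norm_num) h
      interval_cases p
      · exact absurd h (by decide)
      · exact absurd (Fact.out : Nat.Prime 6) (by norm_num))
    simpa using h

/-- The norm of a unipotent element vanishes in characteristic at least 5. -/
theorem norm_unipotent (p : ℕ) [Fact p.Prime] [CharP E p] (hp : 5 ≤ p)
    {g : SpecialLinearGroup (Fin 2) E} {ε : E}
    (hε : ε * ε = 1) (h : ((g : Matrix (Fin 2) (Fin 2) E) - ε • 1) ^ 2 = 0)
    (X : Matrix (Fin 2) (Fin 2) E) : ∑ i ∈ Finset.range p, app (rho F E g ^ i) X = 0 := by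
  have hs : sig F E ε = ε := by rcases mul_self_eq_one_iff.1 hε with rfl | rfl <;> simp
  set G := (g : Matrix (Fin 2) (Fin 2) E) with hG
  set N := ε • (G - ε • 1) with hN
  set M := (N.map (sig F E))ᵀ with hM
  have hNN : N * N = 0 := by rw [hN, smul_mul_smul_comm, ← sq (G - ε • 1), h, smul_zero]
  have hMM : M * M = 0 := by
    rw [hM, ← transpose_mul, ← Matrix.map_mul, hNN, Matrix.map_zero _ (map_zero _), transpose_zero]
  have hG1 : G = ε • (1 + N) := by
    rw [hN, smul_add, smul_smul, hε, one_smul, add_sub_cancel]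
  have hf : ∀ Y, app (rho F E g) Y = (1 + N) * Y * (1 + M) := fun Y => by
    rw [app_rho, ← hG, hG1, Matrix.map_smul' _ _ _ (map_mul (sig F E)), hs, transpose_smul,
      Matrix.map_add _ (map_add (sig F E)), Matrix.map_one _ (map_zero _) (map_one _), transpose_add,
      transpose_one, ← hM, smul_mul_assoc, smul_mul_assoc, mul_smul_comm, smul_smul, hε, one_smul]
  have hpow : ∀ i : ℕ, app (rho F E g ^ i) X =
      X + (i : E) • (N * X + X * M) + ((i : E) * i) • (N * X * M) := by
    intro i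
    induction i with
    | zero => simp [app]
    | succ i ih =>
      have z1 : ∀ Y, N * (N * Y) = 0 := fun Y => by rw [← mul_assoc, hNN, zero_mul]
      rw [pow_succ', app_mul, ih, hf]
      simp only [add_mul, mul_add, one_mul, mul_one, smul_mul_assoc, mul_smul_comm, mul_assoc, z1, hMM,
        mul_zero, smul_zero, add_zero]
      push_cast
      module
  rw [Finset.sum_congr rfl fun i _ => hpow i, Finset.sum_add_distrib, Finset.sum_add_distrib,
    ← Finset.sum_smul, ← Finset.sum_smul, (sums p hp).1, (sums p hp).2, zero_smul, zero_smul, add_zero,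
    add_zero, Finset.sum_const, Finset.card_range, ← Nat.cast_smul_eq_nsmul E, CharP.cast_eq_zero E p,
    zero_smul]

theorem trace_fixed_of_fixed {g : SpecialLinearGroup (Fin 2) E} {X : Matrix (Fin 2) (Fin 2) E} (hX : X ≠ 0)
    (h : app (rho F E g) X = X) :
    (g : Matrix (Fin 2) (Fin 2) E).trace ^ Fintype.card F = (g : Matrix (Fin 2) (Fin 2) E).trace := by
  have hD : ((g : Matrix (Fin 2) (Fin 2) E).map (sig F E))ᵀ.det = 1 := by
    rw [det_transpose, show ((g : Matrix (Fin 2) (Fin 2) E).map (sig F E)).det =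
      sig F E (g : Matrix (Fin 2) (Fin 2) E).det from ((sig F E).map_det _).symm, g.2, map_one]
  have := CfsgLib.SLTwoScalar57.trace_eq_of_fixed g ⟨_, hD⟩ hX h
  rw [← sig_apply F E, AddMonoidHom.map_trace (sig F E)]
  exact ((trace_transpose _).symm.trans this.symm)

theorem sig_sig {q : ℕ} (hq : Fintype.card F = q) (hE : Fintype.card E = q * q) (x : E) :
    sig F E (sig F E x) = x := by
  rw [sig_apply, sig_apply, ← pow_mul, hq, ← hE, FiniteField.pow_card]

variable (F E)

/-- The field automorphism acting on matrices. -/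
def tau (hE : Fintype.card E = Fintype.card F * Fintype.card F) :
    (AddMonoid.End (Matrix (Fin 2) (Fin 2) E))ˣ where
  val := AddMonoidHom.mk' (fun X => X.map (sig F E)) (fun X Y => Matrix.map_add _ (map_add (sig F E)) X Y)
  inv := AddMonoidHom.mk' (fun X => X.map (sig F E)) (fun X Y => Matrix.map_add _ (map_add (sig F E)) X Y)
  val_inv := DFunLike.ext _ _ fun X => by
    ext i j
    exact sig_sig rfl hE _
  inv_val := DFunLike.ext _ _ fun X => by
    ext i j
    exact sig_sig rfl hE _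

variable {F E}

/-- The field automorphism of `SL(2,E)`. -/
abbrev sigSL (g : SpecialLinearGroup (Fin 2) E) : SpecialLinearGroup (Fin 2) E :=
  SpecialLinearGroup.map (sig F E) g

theorem tau_sq (hE : Fintype.card E = Fintype.card F * Fintype.card F) : tau F E hE * tau F E hE = 1 :=
  Units.ext (DFunLike.ext _ _ fun X => by
    ext i j
    exact sig_sig rfl hE _)

theorem tau_mul_rho (hE : Fintype.card E = Fintype.card F * Fintype.card F)
    (g : SpecialLinearGroup (Fin 2) E) : tau F E hE * rho F E g = rho F E (sigSL (F := F) g) * tau F E hE := by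
  refine Units.ext (DFunLike.ext _ _ fun X => ?_)
  show ((g : Matrix (Fin 2) (Fin 2) E) * X * ((g : Matrix (Fin 2) (Fin 2) E).map (sig F E))ᵀ).map (sig F E) =
    (g : Matrix (Fin 2) (Fin 2) E).map (sig F E) * X.map (sig F E) *
      (((g : Matrix (Fin 2) (Fin 2) E).map (sig F E)).map (sig F E))ᵀ
  rw [Matrix.map_mul, Matrix.map_mul, Matrix.transpose_map]

theorem outer_sq (hE : Fintype.card E = Fintype.card F * Fintype.card F) (g : SpecialLinearGroup (Fin 2) E) :
    (tau F E hE * rho F E g) * (tau F E hE * rho F E g) = rho F E (sigSL (F := F) g * g) := by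
  conv_lhs => arg 1; rw [tau_mul_rho]
  rw [mul_assoc, ← mul_assoc (tau F E hE), tau_sq hE, one_mul, ← map_mul]

variable (F E)

/-- The group `SL(2,q²).2`, modulo its centre. -/
def fullGroup (hE : Fintype.card E = Fintype.card F * Fintype.card F) :
    Subgroup (AddMonoid.End (Matrix (Fin 2) (Fin 2) E))ˣ where
  carrier := {f | ∃ g, f = rho F E g ∨ f = tau F E hE * rho F E g}
  one_mem' := ⟨1, Or.inl (map_one _).symm⟩
  mul_mem' := by
    rintro a b ⟨g, rfl | rfl⟩ ⟨h, rfl | rfl⟩
    · exact ⟨g * h, Or.inl (map_mul _ _ _).symm⟩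
    · refine ⟨sigSL (F := F) g * h, Or.inr ?_⟩
      rw [map_mul, ← mul_assoc, ← mul_assoc, tau_mul_rho hE (sigSL (F := F) g),
        show sigSL (F := F) (sigSL (F := F) g) = g from Subtype.ext (by ext i j; exact sig_sig rfl hE _)]
    · exact ⟨g * h, Or.inr (by rw [map_mul, mul_assoc])⟩
    · refine ⟨sigSL (F := F) g * h, Or.inl ?_⟩
      conv_lhs => arg 1; rw [tau_mul_rho]
      rw [mul_assoc, ← mul_assoc (tau F E hE), tau_sq hE, one_mul, ← map_mul]
  inv_mem' := by
    rintro a ⟨g, rfl | rfl⟩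
    · exact ⟨g⁻¹, Or.inl (map_inv _ _).symm⟩
    · refine ⟨sigSL (F := F) g⁻¹, Or.inr ?_⟩
      rw [_root_.mul_inv_rev, ← map_inv, tau_mul_rho hE (sigSL (F := F) g⁻¹),
        show sigSL (F := F) (sigSL (F := F) g⁻¹) = g⁻¹ from Subtype.ext (by ext i j; exact sig_sig rfl hE _),
        inv_eq_of_mul_eq_one_right (tau_sq hE)]

variable {F E}

theorem gcd_sq {q : ℕ} (hq : 1 ≤ q) : Nat.gcd 2 (q * q - 1) = Nat.gcd 2 (q - 1) := by
  have h2 := Nat.mul_mod q q 2
  have hpos : 1 ≤ q * q := Nat.one_le_iff_ne_zero.2 (by positivity)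
  rcases gcd_cases hq with ⟨h, e⟩ | ⟨h, e⟩ <;>
    rcases gcd_cases (q := q * q) hpos with ⟨h', e'⟩ | ⟨h', e'⟩ <;>
    rw [e, e'] <;> rw [h] at h2 <;> omega

theorem card_pow (p : ℕ) [Fact p.Prime] [CharP F p] (hE : Fintype.card E = Fintype.card F * Fintype.card F) :
    ∃ a : ℕ, 0 < a ∧ p ^ a = Fintype.card F ∧ p ^ (a + a) = Fintype.card E := by
  obtain ⟨a, -, ha⟩ := FiniteField.card F p
  exact ⟨a, a.pos, ha.symm, by rw [hE, pow_add, ha]⟩

/-- The orders in the inner part. -/
theorem inner_mem (p : ℕ) [Fact p.Prime] [CharP F p] [CharP E p]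
    (hE : Fintype.card E = Fintype.card F * Fintype.card F) (hp : p = 2 ∨ 5 ≤ p)
    {L : Subgroup (AddMonoid.End (Matrix (Fin 2) (Fin 2) E))ˣ} (x : Aff L) {g : SpecialLinearGroup (Fin 2) E}
    (hx : (x.right : (AddMonoid.End (Matrix (Fin 2) (Fin 2) E))ˣ) = rho F E g) (hpos : 0 < orderOf x) :
    orderOf x ∈ spec p (Fintype.card F) := by
  obtain ⟨a, ha, haq, haQ⟩ := card_pow (E := E) p hE
  set q := Fintype.card F with hq
  have hq1 : 1 ≤ q := Fintype.card_pos
  have hV : ∀ v : Matrix (Fin 2) (Fin 2) E, p • v = 0 := fun v => by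
    rw [← Nat.cast_smul_eq_nsmul E, CharP.cast_eq_zero E p, zero_smul]
  have hunip : ∀ ε : E, ε * ε = 1 → ((g : Matrix (Fin 2) (Fin 2) E) - ε • 1) ^ 2 = 0 →
      orderOf x ∈ spec p q := by
    intro ε hε h
    rcases hp with rfl | hp5
    · refine ⟨hpos, Or.inr (Or.inr (Or.inr (Or.inr ⟨by norm_num, ?_⟩)))⟩
      rw [sq]
      exact orderOf_dvd_mul hV x (hx ▸ pow_char_of_unipotent 2 hε h)
    · refine ⟨hpos, Or.inr (Or.inr (Or.inl ((orderOf_dvd_of_norm x (hx ▸ pow_char_of_unipotent p hε h)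
        fun v => ?_).trans (dvd_mul_right p _))))⟩
      rw [hx]
      exact norm_unipotent p hp5 hε h v
  have htQ : (g : Matrix (Fin 2) (Fin 2) E).trace ^ p ^ (a + a) = (g : Matrix (Fin 2) (Fin 2) E).trace := by
    rw [haQ, FiniteField.pow_card]
  rcases CfsgLib.SLTwoScalar57.unipotent_or_scalar p (a + a) (by omega) g htQ with ⟨ε, hε, h⟩ | ⟨c, hc, h⟩
  · exact hunip ε hε h
  by_cases hfix : ∀ v, app (rho F E g) v = v → v = 0
  · rw [haQ, hE, gcd_sq hq1] at h
    rcases h with h | h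
    · refine ⟨hpos, Or.inr (Or.inl ?_)⟩
      rw [sq]
      exact orderOf_dvd_of_fpf x (hx ▸ rho_pow_of_scalar hc h) (hx ▸ hfix)
    · refine ⟨hpos, Or.inl ?_⟩
      rw [sq]
      exact orderOf_dvd_of_fpf x (hx ▸ rho_pow_of_scalar hc h) (hx ▸ hfix)
  · simp only [not_forall] at hfix
    obtain ⟨v, hv, hv0⟩ := hfix
    have htq := trace_fixed_of_fixed hv0 hv
    rw [← hq, ← haq] at htq
    rcases CfsgLib.SLTwoScalar57.unipotent_or_scalar p a ha g htq with ⟨ε, hε, h'⟩ | ⟨c', hc', h'⟩
    · exact hunip ε hε h'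
    rw [haq] at h'
    have key : ∀ n, Nat.gcd 2 (q - 1) ∣ n → (g : Matrix (Fin 2) (Fin 2) E) ^ (n / Nat.gcd 2 (q - 1)) = c' • 1 →
        orderOf x ∣ p * n := fun n hn h'' =>
      (orderOf_dvd_mul hV x (hx ▸ rho_pow_of_scalar hc' h'')).trans
        (mul_comm p n ▸ Nat.mul_dvd_mul_right (Nat.div_dvd_of_dvd hn) p)
    have hd : Nat.gcd 2 (q - 1) ∣ q + 1 := by
      rcases gcd_cases hq1 with ⟨h1, e⟩ | ⟨-, e⟩ <;> rw [e]
      · omega
      · exact one_dvd _
    rcases h' with h' | h'
    · exact ⟨hpos, Or.inr (Or.inr (Or.inl (key _ (Nat.gcd_dvd_right 2 _) h')))⟩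
    · exact ⟨hpos, Or.inr (Or.inr (Or.inr (Or.inl (key _ hd h'))))⟩

theorem sum_two_mul {V : Type*} [AddCommGroup V] (f : (AddMonoid.End V)ˣ) (v : V) (n : ℕ) :
    ∑ i ∈ Finset.range (2 * n), app (f ^ i) v = ∑ i ∈ Finset.range n, app ((f * f) ^ i) (v + app f v) := by
  induction n with
  | zero => simp
  | succ n ih =>
    rw [Nat.mul_succ, Finset.sum_range_succ, Finset.sum_range_succ, ih, Finset.sum_range_succ, add_assoc]
    congr 1
    rw [← sq, ← pow_mul]
    show _ = ((f ^ (2 * n) : (AddMonoid.End V)ˣ) : AddMonoid.End V) (v + app f v)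
    rw [map_add, pow_succ, app_mul]

/-- The orders in the outer part. -/
theorem outer_mem (p : ℕ) [Fact p.Prime] [CharP F p] [CharP E p]
    (hE : Fintype.card E = Fintype.card F * Fintype.card F) (hp : 5 ≤ p)
    {L : Subgroup (AddMonoid.End (Matrix (Fin 2) (Fin 2) E))ˣ} (x : Aff L) {g : SpecialLinearGroup (Fin 2) E}
    (hx : (x.right : (AddMonoid.End (Matrix (Fin 2) (Fin 2) E))ˣ) = tau F E hE * rho F E g)
    (hpos : 0 < orderOf x) :
    orderOf x ∈ spec p (Fintype.card F) := by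
  obtain ⟨a, ha, haq, -⟩ := card_pow (E := E) p hE
  set q := Fintype.card F with hq
  have hq1 : 1 ≤ q := Fintype.card_pos
  have hqodd : q % 2 = 1 := by
    rw [← haq, Nat.pow_mod, ((Fact.out : p.Prime).eq_two_or_odd).resolve_left (by omega)]
    simp
  have hd : Nat.gcd 2 (q - 1) = 2 := Nat.gcd_eq_left (by omega)
  have hV : ∀ v : Matrix (Fin 2) (Fin 2) E, p • v = 0 := fun v => by
    rw [← Nat.cast_smul_eq_nsmul E, CharP.cast_eq_zero E p, zero_smul]
  set n := sigSL (F := F) g * g with hn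
  set y := tau F E hE * rho F E g with hy
  have hsq : y * y = rho F E n := outer_sq hE g
  have htr : (n : Matrix (Fin 2) (Fin 2) E).trace ^ p ^ a = (n : Matrix (Fin 2) (Fin 2) E).trace := by
    rw [haq, hq, ← sig_apply F E]
    show sig F E (((g : Matrix (Fin 2) (Fin 2) E).map (sig F E)) * (g : Matrix (Fin 2) (Fin 2) E)).trace = _
    have : ((g : Matrix (Fin 2) (Fin 2) E).map (sig F E)).map (sig F E) = g := by
      ext i j
      exact sig_sig rfl hE _
    rw [AddMonoidHom.map_trace (sig F E), Matrix.map_mul, this, trace_mul_comm]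
    rfl
  rcases CfsgLib.SLTwoScalar57.unipotent_or_scalar p a ha n htr with ⟨ε, hε, h⟩ | ⟨c, hc, h⟩
  · refine ⟨hpos, Or.inr (Or.inr (Or.inl (Dvd.dvd.trans
      (orderOf_dvd_of_norm x (n := 2 * p) ?_ fun v => ?_) ?_)))⟩
    · rw [hx, pow_mul, sq, hsq]
      exact pow_char_of_unipotent p hε h
    · rw [hx, sum_two_mul, hsq]
      exact norm_unipotent p hp hε h _
    · rw [mul_comm 2 p]
      exact Nat.mul_dvd_mul_left p (hd ▸ Nat.gcd_dvd_right 2 (q - 1))
  · rw [haq, hd] at h
    have key : ∀ k, 2 ∣ k → (n : Matrix (Fin 2) (Fin 2) E) ^ (k / 2) = c • 1 → orderOf x ∣ p * k := by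
      intro k hk h'
      have h1 : y ^ k = 1 := by
        rw [← Nat.mul_div_cancel' hk, pow_mul, sq, hsq]
        exact rho_pow_of_scalar hc h'
      exact (orderOf_dvd_mul hV x (hx ▸ h1)).trans (mul_comm p k ▸ dvd_rfl)
    rcases h with h | h
    · exact ⟨hpos, Or.inr (Or.inr (Or.inl (key _ (by omega) h)))⟩
    · exact ⟨hpos, Or.inr (Or.inr (Or.inr (Or.inl (key _ (by omega) h))))⟩

end CfsgLib.Hermitian57
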