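import Mathlib
import Cfsg.Agent.Isospectral57.Hermitian

set_option autoImplicit false

/-!
Arbitrarily large groups with the element orders of `PSp(4,q)` for `q` even, or a power of a prime `p ≥ 5`.
-/

open Matrix

namespace CfsgLib.Hermitian57

open CfsgLib.Affine57 CfsgLib.PSpFour

variable {F E : Type*} [Field F] [Fintype F] [Field E] [Fintype E] [Algebra F E]

/-- The diagonal torus of `SL(2)`. -/
def diagSL : Eˣ →* SpecialLinearGroup (Fin 2) E where
  toFun a := ⟨!![(a : E), 0; 0, ((a⁻¹ : Eˣ) : E)], by simp [det_fin_two]⟩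
  map_one' := by
    apply Subtype.ext
    ext i j
    fin_cases i <;> fin_cases j <;> simp
  map_mul' a b := by
    apply Subtype.ext
    show !![((a * b : Eˣ) : E), 0; 0, (((a * b)⁻¹ : Eˣ) : E)] =
      !![(a : E), 0; 0, ((a⁻¹ : Eˣ) : E)] * !![(b : E), 0; 0, ((b⁻¹ : Eˣ) : E)]
    ext i j
    fin_cases i <;> fin_cases j <;> simp [mul_comm, Matrix.mul_apply, Fin.sum_univ_two]

theorem diagSL_coe (a : Eˣ) : (diagSL a : Matrix (Fin 2) (Fin 2) E) = !![(a : E), 0; 0, ((a⁻¹ : Eˣ) : E)] :=
  rfl

theorem diagSL_injective : Function.Injective (diagSL (E := E)) := fun a b h =>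
  Units.ext (congrFun (congrFun (congrArg Subtype.val h) 0) 0)

theorem exists_diag : ∃ g : SpecialLinearGroup (Fin 2) E, orderOf g = Fintype.card E - 1 := by
  classical
  obtain ⟨y, hy⟩ := IsCyclic.exists_ofOrder_eq_natCard (α := Eˣ)
  rw [Nat.card_units, Nat.card_eq_fintype_card] at hy
  exact ⟨diagSL y, by rw [orderOf_injective _ diagSL_injective, hy]⟩

theorem exists_nonsplit (p : ℕ) [Fact p.Prime] [CharP E p] :
    ∃ g : SpecialLinearGroup (Fin 2) E, orderOf g = Fintype.card E + 1 := by
  classical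
  let L := FiniteField.Extension E p 2
  haveI : Finite L := Module.finite_of_finite E
  let b : Module.Basis (Fin 2) E L := Module.finBasisOfFinrankEq E L (FiniteField.finrank_extension E p 2)
  set Q := Fintype.card E with hQ
  have hQ1 : 1 < Q := Fintype.one_lt_card
  obtain ⟨y, hy⟩ := IsCyclic.exists_ofOrder_eq_natCard (α := Lˣ)
  rw [Nat.card_units, FiniteField.natCard_extension, Nat.card_eq_fintype_card, ← hQ] at hy
  have hfac : Q ^ 2 - 1 = (Q + 1) * (Q - 1) := by rw [← Nat.sq_sub_sq, one_pow]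
  set z := y ^ (Q - 1) with hz
  have hzord : orderOf z = Q + 1 := by
    rw [hz, orderOf_pow' _ (by omega), hy, hfac, Nat.gcd_mul_left_left, Nat.mul_div_cancel _ (by omega)]
  have hdet : (Algebra.leftMulMatrix b (z : L)).det = 1 := by
    rw [← Algebra.norm_eq_matrix_det b, hz, Units.val_pow_eq_pow_val, map_pow]
    exact FiniteField.pow_card_sub_one_eq_one _ ((Algebra.norm_ne_zero_iff).mpr y.ne_zero)
  let M : SpecialLinearGroup (Fin 2) E := ⟨_, hdet⟩
  have hM : ∀ k : ℕ, ((M ^ k : SpecialLinearGroup (Fin 2) E) : Matrix (Fin 2) (Fin 2) E) =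
      Algebra.leftMulMatrix b (z : L) ^ k := fun k => Matrix.SpecialLinearGroup.coe_pow M k
  refine ⟨M, ?_⟩
  refine Eq.trans ?_ hzord
  refine orderOf_eq_orderOf_iff.2 fun k => ?_
  constructor
  · intro h
    have h2 := congrArg Subtype.val h
    rw [hM] at h2
    refine Units.ext (Algebra.leftMulMatrix_injective b ?_)
    rw [Units.val_pow_eq_pow_val, map_pow, Units.val_one, map_one]
    exact h2
  · intro h
    apply Subtype.ext
    rw [hM]
    show Algebra.leftMulMatrix b (z : L) ^ k = 1
    rw [← map_pow, ← Units.val_pow_eq_pow_val, h, Units.val_one, map_one]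

theorem sigSL_diag (a : Eˣ) :
    sigSL (F := F) (diagSL a) = diagSL (Units.map (sig F E : E →* E) a) := by
  apply Subtype.ext
  ext i j
  fin_cases i <;> fin_cases j <;> simp [diagSL_coe, sigSL]

theorem app_diag (a : Eˣ) (x y z w : E) :
    app (rho F E (diagSL a)) !![x, y; z, w] =
      !![(a : E) * x * sig F E (a : E), (a : E) * y * sig F E ((a⁻¹ : Eˣ) : E);
        ((a⁻¹ : Eˣ) : E) * z * sig F E (a : E), ((a⁻¹ : Eˣ) : E) * w * sig F E ((a⁻¹ : Eˣ) : E)] := by
  rw [app_rho]
  ext i j
  fin_cases i <;> fin_cases j <;> simp [diagSL_coe, Matrix.mul_apply, Fin.sum_univ_two, mul_assoc]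

/-- Arbitrarily large groups with the element orders of `PSp(4,q)`. -/
theorem exists_large_herm (p : ℕ) [Fact p.Prime] [CharP F p] [CharP E p] (hp : p = 2 ∨ 5 ≤ p)
    (hE : Fintype.card E = Fintype.card F * Fintype.card F) (N : ℕ) :
    ∃ (H : Type) (_ : Group H) (_ : Fintype H), N < Fintype.card H ∧
      Set.range (orderOf : H → ℕ) = spec p (Fintype.card F) := by
  classical
  set q := Fintype.card F with hq
  have hq2 : 2 ≤ q := Fintype.one_lt_card
  have hp' : p.Prime := Fact.out
  obtain ⟨a, ha, haq, -⟩ := card_pow (E := E) p hE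
  rw [← hq] at haq
  have hpq : p ∣ q := haq ▸ dvd_pow_self p ha.ne'
  have hnp1 : ¬ p ∣ q + 1 := fun hd => hp'.not_dvd_one ((Nat.dvd_add_right hpq).1 hd)
  have hnp2 : ¬ p ∣ q - 1 := fun hd => hp'.not_dvd_one (by
    have := Nat.dvd_sub hpq hd
    rwa [Nat.sub_sub_self (by omega)] at this)
  have hV : ∀ v : Matrix (Fin 2) (Fin 2) E, p • v = 0 := fun v => by
    rw [← Nat.cast_smul_eq_nsmul E, CharP.cast_eq_zero E p, zero_smul]
  obtain ⟨gm, hgm⟩ := exists_diag (E := E)
  obtain ⟨gp, hgp⟩ := exists_nonsplit (E := E) p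
  obtain ⟨y, hy⟩ := IsCyclic.exists_ofOrder_eq_natCard (α := Eˣ)
  rw [Nat.card_units, Nat.card_eq_fintype_card, hE] at hy
  have hfac : q * q - 1 = (q + 1) * (q - 1) := by rw [← Nat.mul_self_sub_mul_self_eq, one_mul]
  haveI : Nonempty (Matrix (Fin 2) (Fin 2) E) := ⟨0⟩
  have hd1 := Nat.gcd_dvd_right 2 (q - 1)
  -- semisimple elements of the two big orders
  have big : ∀ {L : Subgroup (AddMonoid.End (Matrix (Fin 2) (Fin 2) E))ˣ}, (∀ g, rho F E g ∈ L) →
      ∀ (g : SpecialLinearGroup (Fin 2) E) (M : ℕ), orderOf g = M → (q % 2 = 1 → 2 ∣ M) →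
      (q % 2 = 0 → ¬ 2 ∣ M) → ∃ x : Aff L, M / Nat.gcd 2 (q - 1) ∣ orderOf x := by
    intro L hL g M hM hM1 hM2
    refine ⟨⟨1, ⟨rho F E g, hL g⟩⟩, dvd_orderOf _ fun k hk => ?_⟩
    change rho F E g ^ k = 1 at hk
    rw [← map_pow] at hk
    have h2 : g ^ (2 * k) = 1 := by rw [two_mul, pow_add]; exact sq_eq_one_of_rho hk
    have h3 : M ∣ 2 * k := hM ▸ orderOf_dvd_of_pow_eq_one h2
    rcases gcd_cases (q := q) (by omega) with ⟨h, e⟩ | ⟨h, e⟩ <;> rw [e]
    · obtain ⟨M', rfl⟩ := hM1 h
      rw [Nat.mul_div_cancel_left _ two_pos]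
      exact Nat.dvd_of_mul_dvd_mul_left two_pos h3
    · rw [Nat.div_one]
      exact (Nat.Coprime.dvd_mul_left ((Nat.prime_two.coprime_iff_not_dvd).2 (hM2 h)).symm).1 h3
  have hqq : (q % 2 = 1 → (q * q) % 2 = 1) ∧ (q % 2 = 0 → (q * q) % 2 = 0) :=
    ⟨fun h => by rw [Nat.mul_mod, h], fun h => by rw [Nat.mul_mod, h]⟩
  have hqq1 : 1 ≤ q * q := Nat.one_le_iff_ne_zero.2 (by positivity)
  rcases hp with rfl | hp5
  · -- characteristic two
    have hqe : q % 2 = 0 := Nat.mod_eq_zero_of_dvd hpq
    set L := (rho F E).range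
    refine exists_large (L := L) (spec 2 q) ?_ ?_ N
    · intro x
      obtain ⟨g, hg⟩ := x.right.2
      haveI : Finite (AddMonoid.End (Matrix (Fin 2) (Fin 2) E)) :=
        Finite.of_injective (fun f : AddMonoid.End _ => (f : Matrix (Fin 2) (Fin 2) E → _)) DFunLike.coe_injective
      haveI : Finite (Multiplicative (Matrix (Fin 2) (Fin 2) E)) := Finite.of_equiv _ Multiplicative.ofAdd
      haveI : Finite (Aff L) := Finite.of_equiv _ SemidirectProduct.equivProd.symm
      exact inner_mem 2 hE (Or.inl rfl) x hg.symm (orderOf_pos x)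
    intro k hk
    refine ⟨hk.1, ?_⟩
    have hL : ∀ g, rho F E g ∈ L := fun g => ⟨g, rfl⟩
    obtain ⟨-, h | h | h | h | ⟨-, h⟩⟩ := hk
    · obtain ⟨x, hx⟩ := big hL gp _ hgp (fun h' => by have := hqq.1 h'; omega) (fun h' => by
        have := hqq.2 h'; omega)
      rw [hE, ← sq] at hx
      exact ⟨x, h.trans hx⟩
    · obtain ⟨x, hx⟩ := big hL gm _ hgm (fun h' => by have := hqq.1 h'; omega) (fun h' => by
        have := hqq.2 h'; omega)
      rw [hE, ← sq] at hx
      exact ⟨x, h.trans hx⟩
    · -- a torus of order `q - 1` fixing a vector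
      set c := y ^ (q + 1) with hc
      have hco : orderOf c = q - 1 := by
        rw [hc, orderOf_pow' _ (by omega), hy, hfac, Nat.gcd_mul_right_left, Nat.mul_div_cancel_left _ (by omega)]
      have hcs : sig F E ((c⁻¹ : Eˣ) : E) = ((c⁻¹ : Eˣ) : E) := by
        rw [sig_apply, ← hq, ← Units.val_pow_eq_pow_val, inv_pow]
        congr 2
        rw [show q = q - 1 + 1 by omega, pow_succ, ← hco, pow_orderOf_eq_one, one_mul]
      obtain ⟨x, hx⟩ := exists_mul_dvd_orderOf (Fact.out : (2 : ℕ).Prime) hV (hL (diagSL c)) (n := q - 1)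
        (by rw [← map_pow, ← map_pow, ← hco, pow_orderOf_eq_one, map_one, map_one])
        (fun j hj => by
          rw [← map_pow] at hj
          have h2 := sq_eq_one_of_rho hj
          rw [← map_pow, ← map_mul, ← (map_one diagSL : diagSL (1 : Eˣ) = 1), ← pow_add, ← two_mul] at h2
          have h3 := hco ▸ orderOf_dvd_of_pow_eq_one (diagSL_injective h2)
          exact (Nat.Coprime.dvd_mul_left ((Nat.prime_two.coprime_iff_not_dvd).2 hnp2).symm).1 h3)
        hnp2 (w := !![0, 1; 0, 0]) (fun h0 => one_ne_zero (α := E) (by simpa using congrFun (congrFun h0 0) 1))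
        (by rw [app_diag, hcs]; ext i j; fin_cases i <;> fin_cases j <;> simp)
      exact ⟨x, h.trans (mul_comm 2 (q - 1) ▸ hx)⟩
    · -- a torus of order `q + 1` fixing a vector
      set c := y ^ (q - 1) with hc
      have hco : orderOf c = q + 1 := by
        rw [hc, orderOf_pow' _ (by omega), hy, hfac, Nat.gcd_mul_left_left, Nat.mul_div_cancel _ (by omega)]
      have hcs : (c : E) * sig F E (c : E) = 1 := by
        rw [sig_apply, ← hq, ← pow_succ', ← Units.val_pow_eq_pow_val, ← hco, pow_orderOf_eq_one, Units.val_one]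
      obtain ⟨x, hx⟩ := exists_mul_dvd_orderOf (Fact.out : (2 : ℕ).Prime) hV (hL (diagSL c)) (n := q + 1)
        (by rw [← map_pow, ← map_pow, ← hco, pow_orderOf_eq_one, map_one, map_one])
        (fun j hj => by
          rw [← map_pow] at hj
          have h2 := sq_eq_one_of_rho hj
          rw [← map_pow, ← map_mul, ← (map_one diagSL : diagSL (1 : Eˣ) = 1), ← pow_add, ← two_mul] at h2
          have h3 := hco ▸ orderOf_dvd_of_pow_eq_one (diagSL_injective h2)
          exact (Nat.Coprime.dvd_mul_left ((Nat.prime_two.coprime_iff_not_dvd).2 hnp1).symm).1 h3)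
        hnp1 (w := !![1, 0; 0, 0]) (fun h0 => one_ne_zero (α := E) (by simpa using congrFun (congrFun h0 0) 0))
        (by rw [app_diag]; ext i j; fin_cases i <;> fin_cases j <;> simp [hcs])
      exact ⟨x, h.trans (mul_comm 2 (q + 1) ▸ hx)⟩
    · -- an element of order 4
      let u : SpecialLinearGroup (Fin 2) E := ⟨!![1, 1; 0, 1], by simp [det_fin_two]⟩
      let g : Aff L := ⟨Multiplicative.ofAdd !![0, 0; 0, 1], ⟨rho F E u, hL u⟩⟩
      refine ⟨g, h.trans ?_⟩
      have hu2 : rho F E u ^ 2 = 1 := by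
        refine pow_char_of_unipotent 2 (ε := 1) (one_mul 1) ?_
        rw [one_smul, sq]
        ext i j
        fin_cases i <;> fin_cases j <;> simp [u, Matrix.mul_apply, Fin.sum_univ_two]
      have h4 : orderOf g ∣ 2 ^ 2 := by rw [sq]; exact orderOf_dvd_mul hV g hu2
      obtain ⟨i, hi, hi'⟩ := (Nat.dvd_prime_pow Nat.prime_two).1 h4
      rw [hi']
      refine pow_dvd_pow 2 ?_
      by_contra hlt
      have h2 : g ^ 2 = 1 := orderOf_dvd_iff_pow_eq_one.1 (by rw [hi']; exact (pow_dvd_pow 2 (show i ≤ 1 by omega)).trans (by norm_num))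
      have h5 := left_pow g 2
      rw [h2] at h5
      change (0 : Matrix (Fin 2) (Fin 2) E) = _ at h5
      rw [Finset.sum_range_succ, Finset.sum_range_one, pow_zero, pow_one] at h5
      change (0 : Matrix (Fin 2) (Fin 2) E) = !![0, 0; 0, 1] + app (rho F E u) !![0, 0; 0, 1] at h5
      have h6 := congrFun (congrFun h5 0) 0
      rw [app_rho] at h6
      simp [u, Matrix.mul_apply, Fin.sum_univ_two, Matrix.transpose_apply, Matrix.map_apply, Matrix.vecMul, dotProduct] at h6
  · -- characteristic at least five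
    have hqo : q % 2 = 1 := by
      rw [← haq, Nat.pow_mod, (hp'.eq_two_or_odd).resolve_left (by omega)]
      simp
    set L := fullGroup F E hE
    refine exists_large (L := L) (spec p q) ?_ ?_ N
    · intro x
      haveI : Finite (AddMonoid.End (Matrix (Fin 2) (Fin 2) E)) :=
        Finite.of_injective (fun f : AddMonoid.End _ => (f : Matrix (Fin 2) (Fin 2) E → _)) DFunLike.coe_injective
      haveI : Finite (Multiplicative (Matrix (Fin 2) (Fin 2) E)) := Finite.of_equiv _ Multiplicative.ofAdd
      haveI : Finite (Aff L) := Finite.of_equiv _ SemidirectProduct.equivProd.symm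
      obtain ⟨g, hg | hg⟩ := x.right.2
      · exact inner_mem p hE (Or.inr hp5) x hg (orderOf_pos x)
      · exact outer_mem p hE hp5 x hg (orderOf_pos x)
    intro k hk
    refine ⟨hk.1, ?_⟩
    have hL : ∀ g, rho F E g ∈ L := fun g => ⟨g, Or.inl rfl⟩
    have hLt : ∀ g, tau F E hE * rho F E g ∈ L := fun g => ⟨g, Or.inr rfl⟩
    -- powers of outer elements that are trivial have even exponent
    have heven : ∀ (g : SpecialLinearGroup (Fin 2) E) (j : ℕ), (tau F E hE * rho F E g) ^ j = 1 → 2 ∣ j := by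
      intro g j hj
      rcases Nat.even_or_odd j with hj' | ⟨i, rfl⟩
      · exact even_iff_two_dvd.1 hj'
      exfalso
      rw [pow_succ, pow_mul, sq, outer_sq, ← map_pow] at hj
      have h1 : rho F E ((sigSL (F := F) g * g) ^ i) * tau F E hE =
          rho F E g⁻¹ := by
        have := congrArg (· * rho F E g⁻¹) hj
        simp only [mul_assoc, one_mul, ← map_mul (rho F E) g, mul_inv_cancel, map_one, mul_one] at this
        exact this
      have h2 : ∀ (c : E) (X : Matrix (Fin 2) (Fin 2) E) (g : SpecialLinearGroup (Fin 2) E),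
          app (rho F E g) (c • X) = c • app (rho F E g) X := fun c X g => by
        rw [app_rho, app_rho, mul_smul_comm, smul_mul_assoc]
      set m := (sigSL (F := F) g * g) ^ i
      have e1 : tau F E hE = rho F E (m⁻¹ * g⁻¹) := by rw [map_mul, ← h1, ← mul_assoc, ← map_mul, inv_mul_cancel, map_one, one_mul]
      have e2 : ∀ c : E, c ^ q = c := fun c => by
        have h3 := congrArg (fun f => app f (c • (1 : Matrix (Fin 2) (Fin 2) E))) e1
        have h3' := congrArg (fun f => app f (1 : Matrix (Fin 2) (Fin 2) E)) e1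
        beta_reduce at h3 h3'
        rw [h2, ← h3'] at h3
        have h4 : ((c • (1 : Matrix (Fin 2) (Fin 2) E)).map (sig F E)) = c • ((1 : Matrix (Fin 2) (Fin 2) E).map (sig F E)) := h3
        have h5 := congrFun (congrFun h4 0) 0
        simpa [sig_apply, ← hq] using h5
      have h6 : (y : E) ^ q = y := e2 _
      rw [← Units.val_pow_eq_pow_val] at h6
      have h7 : y ^ (q - 1) = 1 := by
        refine mul_right_cancel (b := y) ?_
        rw [← pow_succ, Nat.sub_add_cancel (by omega), one_mul]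
        exact Units.ext h6
      have h8 := Nat.le_of_dvd (by omega) (orderOf_dvd_of_pow_eq_one h7)
      rw [hy, hfac] at h8
      have : 3 * (q - 1) ≤ (q + 1) * (q - 1) := Nat.mul_le_mul_right _ (by omega)
      omega
    obtain ⟨-, h | h | h | h | ⟨h3, -⟩⟩ := hk
    · obtain ⟨x, hx⟩ := big hL gp _ hgp (fun h' => by have := hqq.1 h'; omega) (fun h' => by omega)
      rw [hE, ← sq] at hx
      exact ⟨x, h.trans hx⟩
    · obtain ⟨x, hx⟩ := big hL gm _ hgm (fun h' => by have := hqq.1 h'; omega) (fun h' => by omega)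
      rw [hE, ← sq] at hx
      exact ⟨x, h.trans hx⟩
    · -- an outer element of order `q - 1` fixing a vector
      have hN : sigSL (F := F) (diagSL y) * diagSL y = diagSL (y ^ (q + 1)) := by
        rw [sigSL_diag, ← map_mul, pow_succ]
        congr 2
      have hpow : ∀ j : ℕ, (tau F E hE * rho F E (diagSL y)) ^ (2 * j) = rho F E (diagSL (y ^ ((q + 1) * j))) := by
        intro j
        rw [pow_mul, sq, outer_sq, hN, ← map_pow, ← map_pow, ← pow_mul]
      obtain ⟨x, hx⟩ := exists_mul_dvd_orderOf hp' hV (hLt (diagSL y)) (n := q - 1)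
        (by
          rw [show q - 1 = 2 * ((q - 1) / 2) by omega, hpow]
          set b := y ^ ((q + 1) * ((q - 1) / 2)) with hb
          have hb2 : b * b = 1 := by
            rw [hb, ← pow_add, show (q + 1) * ((q - 1) / 2) + (q + 1) * ((q - 1) / 2) = (q + 1) * (q - 1) by
              rw [← mul_add]; congr 1; omega, ← hfac, ← hy, pow_orderOf_eq_one]
          refine rho_of_scalar (c := (b : E)) (by rw [← Units.val_mul, hb2, Units.val_one]) ?_
          have hbi : b⁻¹ = b := inv_eq_of_mul_eq_one_right hb2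
          ext i j
          fin_cases i <;> fin_cases j <;> simp [diagSL_coe, hbi, ← Units.val_inv_eq_inv_val])
        (fun j hj => by
          obtain ⟨i, rfl⟩ := heven _ j hj
          rw [hpow] at hj
          have h2 := sq_eq_one_of_rho hj
          rw [← map_mul, ← (map_one diagSL : diagSL (1 : Eˣ) = 1), ← pow_add, ← mul_add, ← two_mul] at h2
          have h3 := orderOf_dvd_of_pow_eq_one (diagSL_injective h2)
          rw [hy, hfac] at h3
          exact Nat.dvd_of_mul_dvd_mul_left (by omega) h3)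
        hnp2 (w := !![0, ((y⁻¹ : Eˣ) : E); 0, 0])
        (fun h0 => (y⁻¹).ne_zero (by simpa using congrFun (congrFun h0 0) 1))
        (by
          show (app (rho F E (diagSL y)) !![0, ((y⁻¹ : Eˣ) : E); 0, 0]).map (sig F E) = _
          rw [app_diag]
          ext i j
          fin_cases i <;> fin_cases j <;> simp
          exact sig_sig rfl hE _)
      exact ⟨x, h.trans (mul_comm p (q - 1) ▸ hx)⟩
    · -- an outer element of order `q + 1` fixing a vector
      let g : SpecialLinearGroup (Fin 2) E := ⟨!![0, (y : E); -((y⁻¹ : Eˣ) : E), 0], by simp [det_fin_two]⟩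
      set c := -(y ^ (q - 1)) with hc
      have hci : (sigSL (F := F) g * g) = diagSL c := by
        apply Subtype.ext
        have hyq : sig F E (y : E) = (y : E) * ((y ^ (q - 1) : Eˣ) : E) := by
          rw [sig_apply, ← hq, Units.val_pow_eq_pow_val, ← pow_succ', Nat.sub_add_cancel (by omega)]
        show (!![0, (y : E); -((y⁻¹ : Eˣ) : E), 0] : Matrix (Fin 2) (Fin 2) E).map (sig F E) *
          !![0, (y : E); -((y⁻¹ : Eˣ) : E), 0] = !![(c : E), 0; 0, ((c⁻¹ : Eˣ) : E)]
        have hy0 : (y : E) ≠ 0 := y.ne_zero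
        ext i j
        fin_cases i <;> fin_cases j <;> simp [hc, hyq, Matrix.mul_apply, Fin.sum_univ_two] <;> field_simp
      have hpow : ∀ j : ℕ, (tau F E hE * rho F E g) ^ (2 * j) = rho F E (diagSL (c ^ j)) := by
        intro j
        rw [pow_mul, sq, outer_sq, hci, ← map_pow, ← map_pow]
      obtain ⟨x, hx⟩ := exists_mul_dvd_orderOf hp' hV (hLt g) (n := q + 1)
        (by
          rw [show q + 1 = 2 * ((q + 1) / 2) by omega, hpow]
          set b := c ^ ((q + 1) / 2) with hb
          have hb2 : b * b = 1 := by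
            rw [hb, ← pow_add, show (q + 1) / 2 + (q + 1) / 2 = q + 1 by omega, hc,
              Even.neg_pow (by exact ⟨(q + 1) / 2, by omega⟩), ← pow_mul, mul_comm, ← hfac, ← hy, pow_orderOf_eq_one]
          refine rho_of_scalar (c := (b : E)) (by rw [← Units.val_mul, hb2, Units.val_one]) ?_
          have hbi : b⁻¹ = b := inv_eq_of_mul_eq_one_right hb2
          ext i j
          fin_cases i <;> fin_cases j <;> simp [diagSL_coe, hbi, ← Units.val_inv_eq_inv_val])
        (fun j hj => by
          obtain ⟨i, rfl⟩ := heven _ j hj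
          rw [hpow] at hj
          have h2 := sq_eq_one_of_rho hj
          rw [← map_mul, ← (map_one diagSL : diagSL (1 : Eˣ) = 1), ← pow_add, ← two_mul] at h2
          have h3 := diagSL_injective h2
          rw [hc, (even_two_mul i).neg_pow, ← pow_mul] at h3
          have h4 := orderOf_dvd_of_pow_eq_one h3
          rw [hy, hfac, mul_comm (q + 1)] at h4
          exact Nat.dvd_of_mul_dvd_mul_left (by omega) h4)
        hnp1 (w := !![1, 0; 0, (((y ^ (q + 1))⁻¹ : Eˣ) : E)])
        (fun h0 => one_ne_zero (α := E) (by simpa using congrFun (congrFun h0 0) 0))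
        (by
          have hfix : sig F E ((y ^ (q + 1) : Eˣ) : E) = ((y ^ (q + 1) : Eˣ) : E) := by
            rw [sig_apply, ← hq, ← Units.val_pow_eq_pow_val, ← pow_mul]
            congr 1
            rw [show (q + 1) * q = (q * q - 1) + (q + 1) by rw [add_mul, one_mul]; omega, pow_add, ← hy,
              pow_orderOf_eq_one, one_mul]
          show (app (rho F E g) _).map (sig F E) = _
          rw [app_rho]
          have hyq : (y : E) * sig F E (y : E) = ((y ^ (q + 1) : Eˣ) : E) := by
            rw [sig_apply, ← hq, ← pow_succ', Units.val_pow_eq_pow_val]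
          rw [Units.val_inv_eq_inv_val]
          have hy0 : (y : E) ≠ 0 := y.ne_zero
          have hs0 : sig F E (y : E) ≠ 0 := (map_ne_zero _).2 hy0
          rw [← hyq] at hfix ⊢
          rw [map_mul, sig_sig rfl hE] at hfix
          ext i j
          fin_cases i <;> fin_cases j <;>
            simp [g, Matrix.mul_apply, Fin.sum_univ_two, sig_sig rfl hE, Matrix.transpose_apply, Matrix.map_apply, Matrix.vecMul, dotProduct] <;> field_simp <;>
            simp [sig_sig rfl hE, hs0, hy0])
      exact ⟨x, h.trans (mul_comm p (q + 1) ▸ hx)⟩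
    · omega

end CfsgLib.Hermitian57
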