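import Mathlib
import Cfsg.Agent.Isospectral57.PSpFourOrders
import Cfsg.Agent.Isospectral57.Affine

set_option autoImplicit false

/-!
`3⁴ : S₅`, the sum zero permutation module twisted by the sign: the element orders of `PSp(4,3)`.
-/

namespace CfsgLib.PSpFourThree57

open CfsgLib.Affine57 CfsgLib.PSpFour Equiv

/-- The sign, with values in `ZMod 3`. -/
def sgn (σ : Perm (Fin 5)) : ZMod 3 := ((Perm.sign σ : ℤ) : ZMod 3)

theorem sgn_mul (σ τ : Perm (Fin 5)) : sgn (σ * τ) = sgn σ * sgn τ := by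
  simp [sgn, Perm.sign_mul]

/-- Functions of sum zero. -/
def modV : AddSubgroup (Fin 5 → ZMod 3) where
  carrier := {v | ∑ i, v i = 0}
  zero_mem' := by simp
  add_mem' := fun {a b} (ha : ∑ i, a i = 0) (hb : ∑ i, b i = 0) => by
    show ∑ i, (a i + b i) = 0
    rw [Finset.sum_add_distrib, ha, hb, add_zero]
  neg_mem' := fun {a} (ha : ∑ i, a i = 0) => by
    show ∑ i, -(a i) = 0
    rw [Finset.sum_neg_distrib, ha, neg_zero]

instance : DecidablePred (· ∈ modV) := fun v => inferInstanceAs (Decidable (∑ i, v i = 0))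

/-- The twisted permutation of a function. -/
def twist (σ : Perm (Fin 5)) (v : Fin 5 → ZMod 3) : Fin 5 → ZMod 3 := fun i => sgn σ * v (σ⁻¹ i)

theorem twist_mem (σ : Perm (Fin 5)) {v : Fin 5 → ZMod 3} (hv : v ∈ modV) : twist σ v ∈ modV := by
  show ∑ i, sgn σ * v (σ⁻¹ i) = 0
  rw [← Finset.mul_sum, Equiv.sum_comp σ⁻¹ v, show ∑ i, v i = 0 from hv, mul_zero]

/-- The representation. -/
def rep : Perm (Fin 5) →* (AddMonoid.End modV)ˣ :=
  MonoidHom.toHomUnits
    { toFun := fun σ => AddMonoidHom.mk' (fun v => (⟨twist σ v, twist_mem σ v.2⟩ : modV))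
        (fun v w => Subtype.ext (funext fun i => mul_add _ _ _))
      map_one' := DFunLike.ext _ _ fun v => Subtype.ext (funext fun i => by
        show sgn 1 * (v : Fin 5 → ZMod 3) ((1 : Perm (Fin 5))⁻¹ i) = (v : Fin 5 → ZMod 3) i
        simp [sgn])
      map_mul' := fun σ τ => DFunLike.ext _ _ fun v => Subtype.ext (funext fun i => by
        show sgn (σ * τ) * (v : Fin 5 → ZMod 3) ((σ * τ)⁻¹ i) =
          sgn σ * (sgn τ * (v : Fin 5 → ZMod 3) (τ⁻¹ (σ⁻¹ i)))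
        rw [sgn_mul, mul_assoc, mul_inv_rev]
        rfl) }

theorem app_pow (σ : Perm (Fin 5)) (i : ℕ) (v : modV) :
    ((app (rep σ ^ i) v : modV) : Fin 5 → ZMod 3) = twist (σ ^ i) (v : Fin 5 → ZMod 3) := by
  rw [← map_pow]
  rfl

theorem perm_cases : ∀ σ : Perm (Fin 5), σ ^ 4 = 1 ∨ σ ^ 3 = 1 ∨
    (σ ^ 5 = 1 ∧ ∀ v : Fin 5 → ZMod 3, ∑ i, v i = 0 → ∀ j, ∑ i ∈ Finset.range 5, twist (σ ^ i) v j = 0) ∨
    (σ ^ 6 = 1 ∧ ∀ v : Fin 5 → ZMod 3, ∑ i, v i = 0 → ∀ j, ∑ i ∈ Finset.range 6, twist (σ ^ i) v j = 0) := by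
  decide +kernel

theorem faithful : ∀ σ : Perm (Fin 5), (∀ j : Fin 5, twist σ ![1, 2, 0, 0, 0] j = ![1, 2, 0, 0, 0] j ∧
    twist σ ![0, 1, 2, 0, 0] j = ![0, 1, 2, 0, 0] j ∧ twist σ ![0, 0, 1, 2, 0] j = ![0, 0, 1, 2, 0] j) →
      σ = 1 := by
  decide +kernel

theorem eq_one_of_rep {σ : Perm (Fin 5)} (h : rep σ = 1) : σ = 1 := by
  have e : ∀ v : modV, twist σ (v : Fin 5 → ZMod 3) = v := fun v =>
    congrArg (fun f => ((app f v : modV) : Fin 5 → ZMod 3)) h
  exact faithful σ fun j => ⟨congrFun (e ⟨![1, 2, 0, 0, 0], by decide⟩) j,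
    congrFun (e ⟨![0, 1, 2, 0, 0], by decide⟩) j, congrFun (e ⟨![0, 0, 1, 2, 0], by decide⟩) j⟩

theorem exists_large_q_three (N : ℕ) :
    ∃ (H : Type) (_ : Group H) (_ : Fintype H), N < Fintype.card H ∧
      Set.range (orderOf : H → ℕ) = spec 3 3 := by
  classical
  set L := rep.range
  have hL : ∀ σ, rep σ ∈ L := fun σ => ⟨σ, rfl⟩
  have hV : ∀ v : modV, 3 • v = 0 := fun v => Subtype.ext (funext fun i => ZModModule.char_nsmul_eq_zero 3 _)
  haveI : Nontrivial modV := ⟨⟨0, ⟨![1, 2, 0, 0, 0], by decide⟩, fun h => absurd (congrFun (congrArg Subtype.val h) 0) (by decide)⟩⟩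
  refine exists_large (L := L) (spec 3 3) ?_ ?_ N
  · intro x
    haveI : Finite (AddMonoid.End modV) :=
      Finite.of_injective (fun f : AddMonoid.End _ => (f : modV → _)) DFunLike.coe_injective
    haveI : Finite (Multiplicative modV) := Finite.of_equiv _ Multiplicative.ofAdd
    haveI : Finite (Aff L) := Finite.of_equiv _ SemidirectProduct.equivProd.symm
    obtain ⟨σ, hσ⟩ := x.right.2
    refine ⟨orderOf_pos x, ?_⟩
    have hpow : ∀ k, σ ^ k = 1 → (x.right : (AddMonoid.End modV)ˣ) ^ k = 1 := fun k hk => by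
      rw [← hσ, ← map_pow, hk, map_one]
    have hnorm : ∀ k, (∀ v : Fin 5 → ZMod 3, ∑ i, v i = 0 → ∀ j, ∑ i ∈ Finset.range k, twist (σ ^ i) v j = 0) →
        ∀ v, ∑ i ∈ Finset.range k, app ((x.right : (AddMonoid.End modV)ˣ) ^ i) v = 0 := fun k hk v => by
      rw [← hσ]
      refine Subtype.ext (funext fun j => ?_)
      rw [AddSubgroup.val_finset_sum, Finset.sum_apply]
      simp only [app_pow]
      exact hk v v.2 j
    rcases perm_cases σ with h | h | ⟨h, h'⟩ | ⟨h, h'⟩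
    · exact Or.inr (Or.inr (Or.inr (Or.inl ((orderOf_dvd_mul hV x (hpow 4 h)).trans (by norm_num)))))
    · exact Or.inr (Or.inr (Or.inr (Or.inr ⟨le_rfl, (orderOf_dvd_mul hV x (hpow 3 h)).trans (by norm_num)⟩)))
    · exact Or.inl ((orderOf_dvd_of_norm x (hpow 5 h) (hnorm 5 h')).trans (by norm_num))
    · exact Or.inr (Or.inr (Or.inl ((orderOf_dvd_of_norm x (hpow 6 h) (hnorm 6 h')).trans (by norm_num))))
  intro k hk
  refine ⟨hk.1, ?_⟩
  have h12 : ∃ g : Aff L, 12 ∣ orderOf g := by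
    let σ : Perm (Fin 5) := swap 0 1 * swap 1 2 * swap 2 3
    obtain ⟨g, hg⟩ := exists_mul_dvd_orderOf Nat.prime_three hV (hL σ) (n := 4)
      (by rw [← map_pow, show σ ^ 4 = 1 by decide +kernel, map_one])
      (fun j hj => by
        rw [← map_pow] at hj
        have h4 : orderOf σ = 4 := (orderOf_eq_iff (by norm_num)).2 (by decide +kernel)
        exact h4 ▸ orderOf_dvd_of_pow_eq_one (eq_one_of_rep hj))
      (by norm_num) (w := (⟨![1, 2, 1, 2, 0], by decide⟩ : modV))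
      (fun h => absurd (congrFun (congrArg Subtype.val h) 0) (by decide))
      (Subtype.ext (show twist σ ![1, 2, 1, 2, 0] = ![1, 2, 1, 2, 0] by decide +kernel))
    exact ⟨g, hg⟩
  obtain ⟨-, h | h | h | h | ⟨-, h⟩⟩ := hk
  · let σ : Perm (Fin 5) := swap 0 1 * swap 1 2 * swap 2 3 * swap 3 4
    refine ⟨⟨1, ⟨rep σ, hL σ⟩⟩, h.trans (dvd_orderOf _ fun j hj => ?_)⟩
    change rep σ ^ j = 1 at hj
    rw [← map_pow] at hj
    have h5 : orderOf σ = 5 := (orderOf_eq_iff (by norm_num)).2 (by decide +kernel)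
    exact (show (3 ^ 2 + 1) / Nat.gcd 2 (3 - 1) = 5 by decide) ▸ h5 ▸ orderOf_dvd_of_pow_eq_one (eq_one_of_rep hj)
  · obtain ⟨g, hg⟩ := h12
    exact ⟨g, (h.trans (by decide)).trans hg⟩
  · obtain ⟨g, hg⟩ := h12
    exact ⟨g, (h.trans (by decide)).trans hg⟩
  · obtain ⟨g, hg⟩ := h12
    exact ⟨g, (h.trans (by decide)).trans hg⟩
  · let σ : Perm (Fin 5) := swap 0 1 * swap 1 2
    let g : Aff L := ⟨Multiplicative.ofAdd (⟨![1, 0, 0, 2, 0], by decide⟩ : modV), ⟨rep σ, hL σ⟩⟩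
    refine ⟨g, h.trans ?_⟩
    have h3 : rep σ ^ 3 = 1 := by rw [← map_pow, show σ ^ 3 = 1 by decide +kernel, map_one]
    obtain ⟨i, hi, hi'⟩ := (Nat.dvd_prime_pow Nat.prime_three).1
      (show orderOf g ∣ 3 ^ 2 by rw [sq]; exact orderOf_dvd_mul hV g h3)
    rw [hi']
    refine pow_dvd_pow 3 ?_
    by_contra hlt
    have h2 : g ^ 3 = 1 := orderOf_dvd_iff_pow_eq_one.1
      (by rw [hi']; exact (pow_dvd_pow 3 (show i ≤ 1 by omega)).trans (by norm_num))
    have h5 := left_pow g 3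
    rw [h2] at h5
    have h6 := congrFun (congrArg Subtype.val h5) 0
    rw [AddSubgroup.val_finset_sum, Finset.sum_apply] at h6
    change (0 : ZMod 3) = ∑ i ∈ Finset.range 3, ((app (rep σ ^ i) (⟨![1, 0, 0, 2, 0], _⟩ : modV) : modV) : Fin 5 → ZMod 3) 0 at h6
    simp only [app_pow] at h6
    revert h6
    decide +kernel

end CfsgLib.PSpFourThree57
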