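import Mathlib
import Cfsg.Agent.Isospectral57.HermitianLarge

set_option autoImplicit false

/-!
`V ⋊ PSL(2,q²)` for `q = 3^(2t)`, with `V` the tensor product of the natural module with its twists by
`x ↦ x³` and (twice) `x ↦ x^q`: its element orders are those of `PSp(4,q)`.
-/

open Matrix Polynomial
open scoped Kronecker

namespace CfsgLib.ThreePower57

open CfsgLib.Affine57 CfsgLib.PSpFour CfsgLib.Hermitian57

/-- Index set of the fourfold tensor product. -/
abbrev Idx : Type := (Fin 2 × Fin 2) × (Fin 2 × Fin 2)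

variable (F E : Type*) [Field F] [Fintype F] [Field E] [Fintype E] [Algebra F E] [CharP E 3]

/-- The fourfold twisted tensor product of a matrix. -/
def tens (g : Matrix (Fin 2) (Fin 2) E) : Matrix Idx Idx E :=
  (g ⊗ₖ g.map (frobenius E 3)) ⊗ₖ (g.map (sig F E) ⊗ₖ g.map (sig F E))

theorem tens_one : tens F E 1 = 1 := by
  simp only [tens, Matrix.map_one _ (map_zero _) (map_one _), one_kronecker_one]

theorem tens_mul (g h : Matrix (Fin 2) (Fin 2) E) : tens F E (g * h) = tens F E g * tens F E h := by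
  simp only [tens, Matrix.map_mul, mul_kronecker_mul]

/-- The action on the tensor product. -/
def rep : SpecialLinearGroup (Fin 2) E →* (AddMonoid.End (Idx → E))ˣ :=
  MonoidHom.toHomUnits
    { toFun := fun g => AddMonoidHom.mk' (fun v => tens F E (g : Matrix (Fin 2) (Fin 2) E) *ᵥ v)
        (fun v w => mulVec_add _ v w)
      map_one' := DFunLike.ext _ _ fun v => by
        show tens F E (1 : Matrix (Fin 2) (Fin 2) E) *ᵥ v = v
        rw [tens_one, one_mulVec]
      map_mul' := fun g h => DFunLike.ext _ _ fun v => by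
        show tens F E ((g : Matrix (Fin 2) (Fin 2) E) * (h : Matrix (Fin 2) (Fin 2) E)) *ᵥ v =
          tens F E (g : Matrix (Fin 2) (Fin 2) E) *ᵥ (tens F E (h : Matrix (Fin 2) (Fin 2) E) *ᵥ v)
        rw [tens_mul, mulVec_mulVec] }

theorem app_rep (g : SpecialLinearGroup (Fin 2) E) (v : Idx → E) :
    app (rep F E g) v = tens F E (g : Matrix (Fin 2) (Fin 2) E) *ᵥ v := rfl

variable {F E}

theorem rep_of_scalar {g : SpecialLinearGroup (Fin 2) E} {c : E} (hc : c * c = 1)
    (h : (g : Matrix (Fin 2) (Fin 2) E) = c • 1) : rep F E g = 1 := by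
  refine Units.ext (DFunLike.ext _ _ fun v => ?_)
  show tens F E (g : Matrix (Fin 2) (Fin 2) E) *ᵥ v = v
  have e : ∀ s : E →+* E, (c • (1 : Matrix (Fin 2) (Fin 2) E)).map s = c • 1 := fun s => by
    rw [Matrix.map_smul' _ _ _ (map_mul s), Matrix.map_one _ (map_zero _) (map_one _)]
    rcases mul_self_eq_one_iff.1 hc with rfl | rfl <;> simp
  have ht : tens F E (c • (1 : Matrix (Fin 2) (Fin 2) E)) = 1 := by
    simp only [tens, e, smul_kronecker, kronecker_smul, smul_smul, one_kronecker_one]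
    convert one_smul E (1 : Matrix Idx Idx E) using 2
    linear_combination (c * c + 1) * hc
  rw [h, ht, one_mulVec]

theorem rep_pow_of_scalar {g : SpecialLinearGroup (Fin 2) E} {c : E} {k : ℕ} (hc : c * c = 1)
    (h : (g : Matrix (Fin 2) (Fin 2) E) ^ k = c • 1) : rep F E g ^ k = 1 := by
  rw [← map_pow]
  exact rep_of_scalar hc ((Matrix.SpecialLinearGroup.coe_pow g k).trans h)

/-- The kernel consists of involutions. -/
theorem sq_eq_one_of_rep {g : SpecialLinearGroup (Fin 2) E} (h : rep F E g = 1) : g * g = 1 := by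
  set G := (g : Matrix (Fin 2) (Fin 2) E) with hG
  have e : ∀ i j : Fin 2, G i j * (frobenius E 3 (G 0 0) * (sig F E (G 0 0) * sig F E (G 0 0))) =
      if i = j then 1 else 0 := by
    intro i j
    have h1 := congrFun (congrArg (fun f => app f (Pi.single ((j, (0 : Fin 2)), ((0 : Fin 2), (0 : Fin 2))) (1 : E))) h)
      ((i, 0), (0, 0))
    change (tens F E G *ᵥ Pi.single ((j, (0 : Fin 2)), ((0 : Fin 2), (0 : Fin 2))) (1 : E)) ((i, 0), (0, 0)) =
      (Pi.single ((j, (0 : Fin 2)), ((0 : Fin 2), (0 : Fin 2))) (1 : E) : Idx → E) ((i, 0), (0, 0)) at h1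
    rw [mulVec_single_one, Matrix.col_apply, tens] at h1
    simp only [kroneckerMap_apply, Matrix.map_apply, mul_assoc] at h1
    rw [h1, Pi.single_apply]
    simp [Prod.ext_iff]
  have e0 := e 0 0
  have e1 := e 1 1
  have e2 := e 0 1
  have e3 := e 1 0
  simp only [if_true, show ((0 : Fin 2) = 1) = False by decide, show ((1 : Fin 2) = 0) = False by decide,
    if_false] at e0 e1 e2 e3
  set d := frobenius E 3 (G 0 0) * (sig F E (G 0 0) * sig F E (G 0 0))
  have hd : d ≠ 0 := fun hd => by rw [hd, mul_zero] at e0; exact zero_ne_one e0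
  have a1 : G 1 1 = G 0 0 := mul_right_cancel₀ hd (e1.trans e0.symm)
  have a2 : G 0 1 = 0 := (mul_eq_zero.1 e2).resolve_right hd
  have a3 : G 1 0 = 0 := (mul_eq_zero.1 e3).resolve_right hd
  have hdet := g.2
  rw [det_fin_two, ← hG, a1, a2, a3] at hdet
  apply Subtype.ext
  show G * G = 1
  ext i j
  fin_cases i <;> fin_cases j <;>
    simp [mul_apply, Fin.sum_univ_two, a1, a2, a3] <;> linear_combination hdet

omit [Fintype F] [Fintype E] [CharP E 3] in
theorem sub_kronecker {R l m n o : Type*} [CommRing R] (A B : Matrix l m R) (C : Matrix n o R) :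
    (A - B) ⊗ₖ C = A ⊗ₖ C - B ⊗ₖ C := by
  ext i j
  simp [sub_mul]

omit [Fintype F] [Fintype E] [CharP E 3] in
theorem kronecker_sub {R l m n o : Type*} [CommRing R] (A : Matrix l m R) (B C : Matrix n o R) :
    A ⊗ₖ (B - C) = A ⊗ₖ B - A ⊗ₖ C := by
  ext i j
  simp [mul_sub]

omit [Fintype F] [Fintype E] [CharP E 3] in
/-- A fixed common eigenvector. -/
theorem eig_step {K : Type*} [Field K] {n : Type*} [Fintype n] [DecidableEq n] (A : Matrix n n K) {μ ν : K}
    (hquad : (A - μ • 1) * (A - ν • 1) = 0) (S : List (Matrix n n K × K))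
    (hS : ∀ B ∈ S, B.1 * A = A * B.1) {v : n → K} (hv : v ≠ 0) (hvS : ∀ B ∈ S, B.1 *ᵥ v = B.2 • v) :
    ∃ η w, (η = μ ∨ η = ν) ∧ w ≠ 0 ∧ A *ᵥ w = η • w ∧ ∀ B ∈ S, B.1 *ᵥ w = B.2 • w := by
  by_cases h : (A - ν • 1) *ᵥ v = 0
  · rw [sub_mulVec, smul_mulVec, one_mulVec, sub_eq_zero] at h
    exact ⟨ν, v, Or.inr rfl, hv, h, hvS⟩
  · refine ⟨μ, _, Or.inl rfl, h, ?_, fun B hB => ?_⟩
    · have h2 := congrArg (· *ᵥ v) hquad
      beta_reduce at h2
      rw [← mulVec_mulVec, zero_mulVec, sub_mulVec, smul_mulVec, one_mulVec, sub_eq_zero] at h2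
      exact h2
    · have h3 : B.1 * (A - ν • 1) = (A - ν • 1) * B.1 := by
        rw [mul_sub, sub_mul, hS B hB, mul_smul_comm, mul_one, smul_mul_assoc, one_mul]
      rw [mulVec_mulVec, h3, ← mulVec_mulVec, hvS B hB, mulVec_smul]

omit [Fintype F] [Fintype E] [CharP E 3] in
/-- The exponents for which a weight is trivial. -/
theorem torus_cases {K : Type*} [Field K] [CharP K 3] {r : K} {q : ℕ} (hq : 1 ≤ q)
    (hq5 : q % 5 = 1 ∨ q % 5 = 4) (hr : r ≠ 0) (hQ : r ^ (q * q) = r ∨ r ^ (q * q) = r⁻¹)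
    {a b c d : K} (ha : a = r ∨ a = r⁻¹) (hb : b = r ^ 3 ∨ b = (r ^ 3)⁻¹)
    (hc : c = r ^ q ∨ c = (r ^ q)⁻¹) (hd : d = r ^ q ∨ d = (r ^ q)⁻¹) (h : a * b * (c * d) = 1) :
    r ^ (2 * (q - 1)) = 1 ∨ r ^ (2 * (q + 1)) = 1 := by
  have e2 : r ^ 2 = 1 → r ^ (2 * (q - 1)) = 1 := fun h2 => by rw [pow_mul, h2, one_pow]
  have heven : (q - 1) % 2 = 0 ∨ (q + 1) % 2 = 1 := by omega
  have hsm : ∀ μ : K, μ ^ q * μ ^ 2 = 1 ∨ μ ^ q = μ ^ 2 → (μ ^ (q * q) = μ ∨ μ ^ (q * q) = μ⁻¹) → μ ≠ 0 → μ = 1 := by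
    intro μ h1 h2 hμ
    have h4 : μ ^ (q * q) = μ ^ 4 := by
      rw [pow_mul]
      rcases h1 with h1 | h1
      · have e : μ ^ q = (μ ^ 2)⁻¹ := eq_inv_of_mul_eq_one_left h1
        rw [e, inv_pow, ← pow_mul, mul_comm, pow_mul, e, inv_pow, inv_inv, ← pow_mul]
      · rw [h1, ← pow_mul, mul_comm, pow_mul, h1, ← pow_mul]
    rw [h4] at h2
    rcases h2 with h2 | h2
    · have h3 : μ ^ 3 = 1 := mul_right_cancel₀ hμ (by rw [← pow_succ, h2, one_mul])
      have : (μ - 1) ^ 3 = 0 := by rw [sub_pow_char, h3, one_pow, sub_self]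
      exact sub_eq_zero.1 (pow_eq_zero_iff (by norm_num) |>.1 this)
    · have h5 : μ ^ 5 = 1 := by rw [pow_succ, h2, inv_mul_cancel₀ hμ]
      have hmod : μ ^ q = μ ^ (q % 5) := by
        conv_lhs => rw [← Nat.mod_add_div q 5, pow_add, pow_mul, h5, one_pow, mul_one]
      rw [hmod] at h1
      rcases hq5 with e | e <;> rw [e] at h1 <;> rcases h1 with h1 | h1
      · -- μ ^ 3 = 1
        rw [← pow_add] at h1
        have : (μ - 1) ^ 3 = 0 := by rw [sub_pow_char, h1, one_pow, sub_self]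
        exact sub_eq_zero.1 (pow_eq_zero_iff (by norm_num) |>.1 this)
      · exact (mul_left_cancel₀ hμ (by rw [← sq, ← h1, pow_one, mul_one])).symm.symm
      · rw [← pow_add, pow_succ, h5, one_mul] at h1
        exact h1
      · have h7 : μ ^ 2 = 1 := mul_left_cancel₀ (pow_ne_zero 2 hμ) (by rw [← pow_add, h1, mul_one])
        calc μ = μ ^ 5 * μ * ((μ ^ 2) ^ 3)⁻¹ * μ := by rw [← pow_mul, ← pow_succ, mul_inv_cancel₀ (pow_ne_zero 6 hμ), one_mul]
          _ = 1 := by rw [h5, h7, one_pow, inv_one, one_mul, mul_one, ← sq, h7]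
  -- reduce to exponent relations
  have hs0 : r ^ q ≠ 0 := pow_ne_zero q hr
  have hμ0 : r ^ 2 ≠ 0 := pow_ne_zero 2 hr
  have hQ2 : (r ^ 2) ^ (q * q) = r ^ 2 ∨ (r ^ 2) ^ (q * q) = (r ^ 2)⁻¹ := by
    rw [← pow_mul, mul_comm 2, pow_mul]
    rcases hQ with e | e <;> rw [e]
    · exact Or.inl rfl
    · exact Or.inr (inv_pow r 2)
  have k1 : r ^ 2 * (r ^ q) ^ 2 = 1 → r ^ (2 * (q + 1)) = 1 := fun e => by
    rw [← e, ← pow_mul, ← pow_add]
    congr 1
    omega
  have k2 : r ^ 2 = (r ^ q) ^ 2 → r ^ (2 * (q - 1)) = 1 := fun e => by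
    refine mul_right_cancel₀ (pow_ne_zero 2 hr) ?_
    rw [← pow_add, one_mul, show 2 * (q - 1) + 2 = q * 2 by omega, pow_mul, ← e]
  have k3 : r ^ 4 = 1 → r ^ (2 * (q - 1)) = 1 ∨ r ^ (2 * (q + 1)) = 1 := fun e => by
    rcases Nat.even_or_odd q with ⟨l, hl⟩ | ⟨l, hl⟩
    · have hq4 : r ^ (2 * q) = 1 := by
        rw [show 2 * q = 4 * l by omega, pow_mul, e, one_pow]
      rcases hQ with e' | e'
      · have : r ^ (q * q) = 1 := by
          rw [show q * q = 2 * q * l by rw [hl]; ring, pow_mul, hq4, one_pow]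
        rw [this] at e'
        exact Or.inl (by rw [← e', one_pow])
      · have : r ^ (q * q) = 1 := by
          rw [show q * q = 2 * q * l by rw [hl]; ring, pow_mul, hq4, one_pow]
        rw [this] at e'
        exact Or.inl (by rw [inv_eq_one.1 e'.symm, one_pow])
    · exact Or.inl (by rw [show 2 * (q - 1) = 4 * l by omega, pow_mul, e, one_pow])
  have k4 : r ^ 4 * (r ^ q) ^ 2 = 1 → r ^ 2 = 1 := fun e => by
    refine hsm _ (Or.inl ?_) hQ2 hμ0
    rw [← pow_mul, ← pow_mul, mul_comm, mul_comm 2 q, pow_mul r q]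
    exact e
  have k5 : r ^ 4 = (r ^ q) ^ 2 → r ^ 2 = 1 := fun e => by
    refine hsm _ (Or.inr ?_) hQ2 hμ0
    rw [← pow_mul, ← pow_mul, mul_comm 2 q, pow_mul r q, ← e]
  rcases ha with rfl | rfl <;> rcases hb with rfl | rfl <;> rcases hc with rfl | rfl <;>
    rcases hd with rfl | rfl <;> field_simp at h
  all_goals
    first
      | exact Or.inr (k1 (by linear_combination h)) | exact Or.inr (k1 (by linear_combination -h))
      | exact Or.inl (k2 (by linear_combination h)) | exact Or.inl (k2 (by linear_combination -h))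
      | exact k3 (by linear_combination h) | exact k3 (by linear_combination -h)
      | exact Or.inl (e2 (k4 (by linear_combination h))) | exact Or.inl (e2 (k4 (by linear_combination -h)))
      | exact Or.inl (e2 (k5 (by linear_combination h))) | exact Or.inl (e2 (k5 (by linear_combination -h)))
      | exact Or.inl (e2 (by linear_combination h)) | exact Or.inl (e2 (by linear_combination -h))

omit [Fintype E] [CharP E 3] in
/-- The quadratic equation of a matrix gives its scalar powers. -/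
theorem scalar_of_quad {K : Type*} [Field K] [Algebra E K] {n : Type*} [Fintype n] [DecidableEq n] [Nonempty n]
    (A : Matrix n n E) {r : K} {k : ℕ} (hrr : r ≠ r⁻¹)
    (hquad : (A.map (algebraMap E K) - r • 1) * (A.map (algebraMap E K) - r⁻¹ • 1) = 0)
    (h : r ^ k = 1 ∨ r ^ k = -1) : ∃ c : E, c * c = 1 ∧ A ^ k = c • 1 := by
  set G := A.map (algebraMap E K) with hG
  have hi : (r⁻¹) ^ k = r ^ k := by rw [inv_pow]; rcases h with h | h <;> rw [h] <;> simp
  have hdvd : (X - C r) * (X - C r⁻¹) ∣ X ^ k - C (r ^ k) := by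
    refine IsCoprime.mul_dvd (isCoprime_X_sub_C_of_isUnit_sub (sub_ne_zero.2 hrr).isUnit) ?_ ?_
    · rw [dvd_iff_isRoot, IsRoot, eval_sub, eval_pow, eval_X, eval_C, sub_self]
    · rw [dvd_iff_isRoot, IsRoot, eval_sub, eval_pow, eval_X, eval_C, hi, sub_self]
  obtain ⟨f, hf⟩ := hdvd
  have h3 := congrArg (aeval G) hf
  rw [map_mul, map_mul, map_sub, map_sub, map_sub, map_pow, aeval_X, aeval_C, aeval_C, aeval_C,
    Algebra.algebraMap_eq_smul_one, Algebra.algebraMap_eq_smul_one, Algebra.algebraMap_eq_smul_one,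
    hquad, zero_mul, sub_eq_zero] at h3
  obtain ⟨c, hc, hc'⟩ := CfsgLib.Roots57.scalar_of_map (A ^ k) (c := r ^ k)
    ((map_pow (algebraMap E K).mapMatrix A k).trans h3)
  refine ⟨c, (algebraMap E K).injective ?_, hc⟩
  rw [map_mul, hc', map_one]
  rcases h with h | h <;> rw [h] <;> simp

/-- A fixed vector forces the order to divide `q ± 1`. -/
theorem fixed_cases (hq5 : Fintype.card F % 5 = 1 ∨ Fintype.card F % 5 = 4)
    (hE : Fintype.card E = Fintype.card F * Fintype.card F) (g : SpecialLinearGroup (Fin 2) E)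
    {v : Idx → E} (hv : v ≠ 0) (hfix : app (rep F E g) v = v) :
    (∃ ε : E, ε * ε = 1 ∧ ((g : Matrix (Fin 2) (Fin 2) E) - ε • 1) ^ 2 = 0) ∨
    ∃ c : E, c * c = 1 ∧ ((g : Matrix (Fin 2) (Fin 2) E) ^ (Fintype.card F - 1) = c • 1 ∨
      (g : Matrix (Fin 2) (Fin 2) E) ^ (Fintype.card F + 1) = c • 1) := by
  classical
  set q := Fintype.card F with hq
  set A := (g : Matrix (Fin 2) (Fin 2) E) with hA
  set t := A.trace with ht
  let K := AlgebraicClosure E
  haveI : CharP K 3 := charP_of_injective_algebraMap (algebraMap E K).injective 3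
  let φ := algebraMap E K
  obtain ⟨r, hr⟩ := IsAlgClosed.exists_root (C (1 : K) * X ^ 2 + C (-(φ t)) * X + C 1)
    (by rw [degree_quadratic one_ne_zero]; decide)
  rw [IsRoot, eval_add, eval_add, eval_mul, eval_mul, eval_pow, eval_X] at hr
  simp only [eval_C] at hr
  have hr0 : r ≠ 0 := by rintro rfl; simp at hr
  have hsum : φ t = r + r⁻¹ := by
    apply mul_right_cancel₀ hr0
    rw [add_mul, inv_mul_cancel₀ hr0]
    linear_combination -hr
  have hcay := CfsgLib.SLTwoScalar57.cayley g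
  rw [← hA, ← ht] at hcay
  by_cases hrr : r = r⁻¹
  · left
    have hr1 : r = 1 ∨ r = -1 :=
      mul_self_eq_one_iff.1 (by nth_rewrite 2 [hrr]; exact mul_inv_cancel₀ hr0)
    obtain ⟨ε, hε, hεr⟩ : ∃ ε : E, ε * ε = 1 ∧ φ ε = r := by
      rcases hr1 with h | h
      · exact ⟨1, one_mul 1, by rw [map_one, h]⟩
      · exact ⟨-1, by norm_num, by rw [map_neg, map_one, h]⟩
    have ht2 : t = 2 * ε := φ.injective (by rw [map_mul, hεr, map_ofNat, hsum, ← hrr, two_mul])
    refine ⟨ε, hε, ?_⟩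
    rw [sq, sub_mul, mul_sub, mul_sub, hcay, ht2]
    simp only [smul_mul_assoc, mul_smul_comm, one_mul, mul_one, smul_smul, hε, one_smul]
    module
  · right
    set G := A.map φ with hG
    have hquadG : (G - r • 1) * (G - r⁻¹ • 1) = 0 := by
      have hC := congrArg (fun M : Matrix (Fin 2) (Fin 2) E => M.map φ) hcay
      simp only [Matrix.map_mul, Matrix.map_sub _ (map_sub φ), Matrix.map_smul' _ _ _ (map_mul φ),
        Matrix.map_one _ (map_zero φ) (map_one φ), ← hG, hsum] at hC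
      rw [sub_mul, mul_sub, mul_sub, hC]
      simp only [smul_mul_assoc, mul_smul_comm, one_mul, mul_one, smul_smul, inv_mul_cancel₀ hr0,
        mul_inv_cancel₀ hr0, one_smul]
      module
    -- the twisted factors
    let φ3 : K →+* K := frobenius K 3
    let φq : K →+* K := (FiniteField.frobeniusAlgHom F K).toRingHom
    have hquad' : ∀ s : K →+* K, (G.map s - s r • 1) * (G.map s - (s r)⁻¹ • 1) = 0 := fun s => by
      have := congrArg (fun M : Matrix (Fin 2) (Fin 2) K => M.map s) hquadG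
      simp only [Matrix.map_mul, Matrix.map_sub _ (map_sub s), Matrix.map_smul' _ _ _ (map_mul s),
        Matrix.map_one _ (map_zero s) (map_one s), map_inv₀ s, Matrix.map_zero _ (map_zero s)] at this
      exact this
    set P1 : Matrix Idx Idx K := (G ⊗ₖ (1 : Matrix (Fin 2) (Fin 2) K)) ⊗ₖ ((1 : Matrix (Fin 2) (Fin 2) K) ⊗ₖ (1 : Matrix (Fin 2) (Fin 2) K)) with hP1
    set P2 : Matrix Idx Idx K := ((1 : Matrix (Fin 2) (Fin 2) K) ⊗ₖ G.map φ3) ⊗ₖ ((1 : Matrix (Fin 2) (Fin 2) K) ⊗ₖ (1 : Matrix (Fin 2) (Fin 2) K)) with hP2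
    set P3 : Matrix Idx Idx K := ((1 : Matrix (Fin 2) (Fin 2) K) ⊗ₖ (1 : Matrix (Fin 2) (Fin 2) K)) ⊗ₖ (G.map φq ⊗ₖ (1 : Matrix (Fin 2) (Fin 2) K)) with hP3
    set P4 : Matrix Idx Idx K := ((1 : Matrix (Fin 2) (Fin 2) K) ⊗ₖ (1 : Matrix (Fin 2) (Fin 2) K)) ⊗ₖ ((1 : Matrix (Fin 2) (Fin 2) K) ⊗ₖ G.map φq) with hP4
    have hP : P1 * P2 * (P3 * P4) = (tens F E A).map φ := by
      simp only [hP1, hP2, hP3, hP4, ← mul_kronecker_mul, one_mul, mul_one]
      ext ⟨⟨i, j⟩, k, l⟩ ⟨⟨i', j'⟩, k', l'⟩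
      simp only [tens, kroneckerMap_apply, Matrix.map_apply, hG, map_mul]
      have a3 : φ3 (φ (A j j')) = φ (frobenius E 3 (A j j')) := by simp [φ3, frobenius_def]
      have aq : ∀ x : E, φq (φ x) = φ (sig F E x) := fun x => by
        show (φ x) ^ Fintype.card F = φ (sig F E x)
        rw [sig_apply, map_pow]
      rw [a3, aq, aq]
    -- quadratic equations of the factors
    have hk1 : (1 : Matrix Idx Idx K) = ((1 : Matrix (Fin 2) (Fin 2) K) ⊗ₖ (1 : Matrix (Fin 2) (Fin 2) K)) ⊗ₖ ((1 : Matrix (Fin 2) (Fin 2) K) ⊗ₖ (1 : Matrix (Fin 2) (Fin 2) K)) := by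
      rw [one_kronecker_one, one_kronecker_one]
    have q1 : (P1 - r • 1) * (P1 - r⁻¹ • 1) = 0 := by
      have := congrArg (fun M => (M ⊗ₖ (1 : Matrix (Fin 2) (Fin 2) K)) ⊗ₖ ((1 : Matrix (Fin 2) (Fin 2) K) ⊗ₖ (1 : Matrix (Fin 2) (Fin 2) K))) hquadG
      simpa only [sub_mul, mul_sub, smul_mul_assoc, mul_smul_comm, one_mul, mul_one, smul_smul,
        hP1, hk1, ← mul_kronecker_mul, sub_kronecker, smul_kronecker, zero_kronecker] using this
    have q2 : (P2 - φ3 r • 1) * (P2 - (φ3 r)⁻¹ • 1) = 0 := by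
      have := congrArg (fun M => ((1 : Matrix (Fin 2) (Fin 2) K) ⊗ₖ M) ⊗ₖ ((1 : Matrix (Fin 2) (Fin 2) K) ⊗ₖ (1 : Matrix (Fin 2) (Fin 2) K))) (hquad' φ3)
      simpa only [sub_mul, mul_sub, smul_mul_assoc, mul_smul_comm, one_mul, mul_one, smul_smul,
        hP2, hk1, ← mul_kronecker_mul, sub_kronecker, kronecker_sub, smul_kronecker, kronecker_smul,
        zero_kronecker, kronecker_zero] using this
    have q3 : (P3 - φq r • 1) * (P3 - (φq r)⁻¹ • 1) = 0 := by
      have := congrArg (fun M => ((1 : Matrix (Fin 2) (Fin 2) K) ⊗ₖ (1 : Matrix (Fin 2) (Fin 2) K)) ⊗ₖ (M ⊗ₖ (1 : Matrix (Fin 2) (Fin 2) K))) (hquad' φq)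
      simpa only [sub_mul, mul_sub, smul_mul_assoc, mul_smul_comm, one_mul, mul_one, smul_smul,
        hP3, hk1, ← mul_kronecker_mul, sub_kronecker, kronecker_sub, smul_kronecker, kronecker_smul,
        zero_kronecker, kronecker_zero] using this
    have q4 : (P4 - φq r • 1) * (P4 - (φq r)⁻¹ • 1) = 0 := by
      have := congrArg (fun M => ((1 : Matrix (Fin 2) (Fin 2) K) ⊗ₖ (1 : Matrix (Fin 2) (Fin 2) K)) ⊗ₖ ((1 : Matrix (Fin 2) (Fin 2) K) ⊗ₖ M)) (hquad' φq)
      simpa only [sub_mul, mul_sub, smul_mul_assoc, mul_smul_comm, one_mul, mul_one, smul_smul,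
        hP4, hk1, ← mul_kronecker_mul, sub_kronecker, kronecker_sub, smul_kronecker, kronecker_smul,
        zero_kronecker, kronecker_zero] using this
    have c12 : P1 * P2 = P2 * P1 := by simp only [hP1, hP2, ← mul_kronecker_mul, one_mul, mul_one]
    have c13 : P1 * P3 = P3 * P1 := by simp only [hP1, hP3, ← mul_kronecker_mul, one_mul, mul_one]
    have c14 : P1 * P4 = P4 * P1 := by simp only [hP1, hP4, ← mul_kronecker_mul, one_mul, mul_one]
    have c23 : P2 * P3 = P3 * P2 := by simp only [hP2, hP3, ← mul_kronecker_mul, one_mul, mul_one]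
    have c24 : P2 * P4 = P4 * P2 := by simp only [hP2, hP4, ← mul_kronecker_mul, one_mul, mul_one]
    have c34 : P3 * P4 = P4 * P3 := by simp only [hP3, hP4, ← mul_kronecker_mul, one_mul, mul_one]
    set R := P1 * P2 * (P3 * P4) with hR
    have d1 : Commute R P1 := ((Commute.refl P1).mul_left (show Commute P2 P1 from c12.symm)).mul_left
      ((show Commute P3 P1 from c13.symm).mul_left (show Commute P4 P1 from c14.symm))
    have d2 : Commute R P2 := ((show Commute P1 P2 from c12).mul_left (Commute.refl P2)).mul_left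
      ((show Commute P3 P2 from c23.symm).mul_left (show Commute P4 P2 from c24.symm))
    have d3 : Commute R P3 := ((show Commute P1 P3 from c13).mul_left (show Commute P2 P3 from c23)).mul_left
      ((Commute.refl P3).mul_left (show Commute P4 P3 from c34.symm))
    have d4 : Commute R P4 := ((show Commute P1 P4 from c14).mul_left (show Commute P2 P4 from c24)).mul_left
      ((show Commute P3 P4 from c34).mul_left (Commute.refl P4))
    let w : Idx → K := fun i => φ (v i)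
    have hw : w ≠ 0 := fun h => hv (funext fun i => φ.injective (by rw [Pi.zero_apply, map_zero]; exact congrFun h i))
    have hRw : R *ᵥ w = (1 : K) • w := by
      rw [hP, one_smul]
      funext i
      show ((tens F E A).map φ *ᵥ (φ ∘ v)) i = φ (v i)
      rw [← RingHom.map_mulVec]
      exact congrArg φ (congrFun hfix i)
    obtain ⟨η1, w1, hη1, hw1, he1, hS1⟩ := eig_step P1 q1 [(R, 1)]
      (by simp [d1.eq]) hw (by simpa using hRw)
    obtain ⟨η2, w2, hη2, hw2, he2, hS2⟩ := eig_step P2 q2 [(R, 1), (P1, η1)]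
      (by simp [d2.eq, c12]) hw1 (by simpa [he1] using hS1 (R, 1) (by simp))
    obtain ⟨η3, w3, hη3, hw3, he3, hS3⟩ := eig_step P3 q3 [(R, 1), (P1, η1), (P2, η2)]
      (by simp [d3.eq, c13, c23]) hw2
      (by simpa [he2] using And.intro (hS2 (R, 1) (by simp)) (hS2 (P1, η1) (by simp)))
    obtain ⟨η4, w4, hη4, hw4, he4, hS4⟩ := eig_step P4 q4 [(R, 1), (P1, η1), (P2, η2), (P3, η3)]
      (by simp [d4.eq, c14, c24, c34]) hw3
      (by simpa [he3] using And.intro (hS3 (R, 1) (by simp)) (And.intro (hS3 (P1, η1) (by simp)) (hS3 (P2, η2) (by simp))))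
    have e1 : P1 *ᵥ w4 = η1 • w4 := hS4 (P1, η1) (by simp)
    have e2 : P2 *ᵥ w4 = η2 • w4 := hS4 (P2, η2) (by simp)
    have e3 : P3 *ᵥ w4 = η3 • w4 := hS4 (P3, η3) (by simp)
    have e0 : R *ᵥ w4 = (1 : K) • w4 := hS4 (R, 1) (by simp)
    have hprod : η1 * η2 * (η3 * η4) = 1 := by
      rw [hR, ← mulVec_mulVec, ← mulVec_mulVec (v := w4) (M := P3), he4, mulVec_smul, e3, smul_smul,
        mulVec_smul, ← mulVec_mulVec, e2, mulVec_smul, e1, smul_smul, smul_smul] at e0
      obtain ⟨i, hi⟩ := Function.ne_iff.1 hw4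
      have h1 := congrFun e0 i
      simp only [Pi.smul_apply, smul_eq_mul] at h1
      have := mul_right_cancel₀ hi h1
      linear_combination this
    have hQ : r ^ (q * q) = r ∨ r ^ (q * q) = r⁻¹ := by
      have h := congrArg (FiniteField.frobeniusAlgHom E K) hr
      simp only [map_add, map_mul, map_neg, map_pow, map_one, map_zero, AlgHom.commutes, φ] at h
      have hfr : FiniteField.frobeniusAlgHom E K r = r ^ (q * q) := by rw [hq, ← hE]; rfl
      rw [hfr, hsum] at h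
      have h2 : (r ^ (q * q) - r) * (r ^ (q * q) - r⁻¹) = 0 := by
        linear_combination h + mul_inv_cancel₀ hr0
      rcases mul_eq_zero.1 h2 with h3 | h3
      · exact Or.inl (sub_eq_zero.1 h3)
      · exact Or.inr (sub_eq_zero.1 h3)
    have key := torus_cases (r := r) (q := q) Fintype.card_pos hq5 hr0 hQ hη1 hη2 hη3 hη4 hprod
    rcases key with h | h
    · obtain ⟨c, hc, hc'⟩ := scalar_of_quad A hrr hquadG (k := q - 1) (by
        rw [mul_comm, pow_mul] at h; exact sq_eq_one_iff.1 h)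
      exact ⟨c, hc, Or.inl hc'⟩
    · obtain ⟨c, hc, hc'⟩ := scalar_of_quad A hrr hquadG (k := q + 1) (by
        rw [mul_comm, pow_mul] at h; exact sq_eq_one_iff.1 h)
      exact ⟨c, hc, Or.inr hc'⟩

/-- Arbitrarily large groups with the element orders of `PSp(4,q)`. -/
theorem exists_large_three [CharP F 3] (hq5 : Fintype.card F % 5 = 1 ∨ Fintype.card F % 5 = 4)
    (hE : Fintype.card E = Fintype.card F * Fintype.card F) (N : ℕ) :
    ∃ (H : Type) (_ : Group H) (_ : Fintype H), N < Fintype.card H ∧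
      Set.range (orderOf : H → ℕ) = spec 3 (Fintype.card F) := by
  classical
  haveI : Fact (Nat.Prime 3) := ⟨Nat.prime_three⟩
  set q := Fintype.card F with hq
  have hq2 : 2 ≤ q := Fintype.one_lt_card
  obtain ⟨a, ha, haq, haQ⟩ := card_pow (E := E) 3 hE
  rw [← hq] at haq
  have hqo : q % 2 = 1 := by rw [← haq, Nat.pow_mod]; simp
  have hd : Nat.gcd 2 (q - 1) = 2 := Nat.gcd_eq_left (by omega)
  have hpq : 3 ∣ q := haq ▸ dvd_pow_self 3 ha.ne'
  have hnp1 : ¬ 3 ∣ q + 1 := by omega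
  have hnp2 : ¬ 3 ∣ q - 1 := by omega
  have hV : ∀ v : Idx → E, 3 • v = 0 := fun v => by
    rw [← Nat.cast_smul_eq_nsmul E, CharP.cast_eq_zero E 3, zero_smul]
  have hqq : (q * q) % 2 = 1 := by rw [Nat.mul_mod, hqo]
  obtain ⟨gm, hgm⟩ := exists_diag (E := E)
  obtain ⟨gp, hgp⟩ := exists_nonsplit (E := E) 3
  obtain ⟨y, hy⟩ := IsCyclic.exists_ofOrder_eq_natCard (α := Eˣ)
  rw [Nat.card_units, Nat.card_eq_fintype_card, hE] at hy
  have hfac : q * q - 1 = (q + 1) * (q - 1) := by rw [← Nat.mul_self_sub_mul_self_eq, one_mul]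
  set L := (rep F E).range
  have hL : ∀ g, rep F E g ∈ L := fun g => ⟨g, rfl⟩
  refine exists_large (L := L) (spec 3 q) ?_ ?_ N
  · intro x
    haveI : Finite (AddMonoid.End (Idx → E)) :=
      Finite.of_injective (fun f : AddMonoid.End _ => (f : (Idx → E) → _)) DFunLike.coe_injective
    haveI : Finite (Multiplicative (Idx → E)) := Finite.of_equiv _ Multiplicative.ofAdd
    haveI : Finite (Aff L) := Finite.of_equiv _ SemidirectProduct.equivProd.symm
    obtain ⟨g, hg⟩ := x.right.2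
    have hpos := orderOf_pos x
    have hunip : ∀ ε : E, ε * ε = 1 → ((g : Matrix (Fin 2) (Fin 2) E) - ε • 1) ^ 2 = 0 →
        orderOf x ∈ spec 3 q := by
      intro ε hε h
      refine ⟨hpos, Or.inr (Or.inr (Or.inr (Or.inr ⟨le_rfl, ?_⟩)))⟩
      rw [sq]
      refine orderOf_dvd_mul hV x (hg ▸ rep_pow_of_scalar (c := ε ^ 3) (by rw [← mul_pow, hε, one_pow]) ?_)
      have h' : ((g : Matrix (Fin 2) (Fin 2) E) - ε • 1) ^ 3 = 0 := pow_eq_zero_of_le (by norm_num) h
      rwa [sub_pow_char_of_commute (p := 3) (h := (Commute.one_right _).smul_right ε), _root_.smul_pow,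
        one_pow, sub_eq_zero] at h'
    by_cases hfix : ∀ v, app (rep F E g) v = v → v = 0
    · have htQ : (g : Matrix (Fin 2) (Fin 2) E).trace ^ 3 ^ (a + a) = (g : Matrix (Fin 2) (Fin 2) E).trace := by
        rw [haQ, FiniteField.pow_card]
      rcases CfsgLib.SLTwoScalar57.unipotent_or_scalar 3 (a + a) (by omega) g htQ with ⟨ε, hε, h⟩ | ⟨c, hc, h⟩
      · exact hunip ε hε h
      · rw [haQ, hE, gcd_sq (by omega)] at h
        rcases h with h | h
        · refine ⟨hpos, Or.inr (Or.inl ?_)⟩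
          rw [sq]
          exact orderOf_dvd_of_fpf x (hg ▸ rep_pow_of_scalar hc h) (hg ▸ hfix)
        · refine ⟨hpos, Or.inl ?_⟩
          rw [sq]
          exact orderOf_dvd_of_fpf x (hg ▸ rep_pow_of_scalar hc h) (hg ▸ hfix)
    · simp only [not_forall] at hfix
      obtain ⟨v, hv, hv0⟩ := hfix
      rcases fixed_cases hq5 hE g hv0 hv with ⟨ε, hε, h⟩ | ⟨c, hc, h | h⟩
      · exact hunip ε hε h
      · refine ⟨hpos, Or.inr (Or.inr (Or.inl ?_))⟩
        rw [mul_comm]
        exact orderOf_dvd_mul hV x (hg ▸ rep_pow_of_scalar hc h)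
      · refine ⟨hpos, Or.inr (Or.inr (Or.inr (Or.inl ?_)))⟩
        rw [mul_comm]
        exact orderOf_dvd_mul hV x (hg ▸ rep_pow_of_scalar hc h)
  intro k hk
  refine ⟨hk.1, ?_⟩
  have big : ∀ (g : SpecialLinearGroup (Fin 2) E) (M : ℕ), orderOf g = M → 2 ∣ M →
      ∃ x : Aff L, M / 2 ∣ orderOf x := by
    intro g M hM hM1
    refine ⟨⟨1, ⟨rep F E g, hL g⟩⟩, dvd_orderOf _ fun k hk => ?_⟩
    change rep F E g ^ k = 1 at hk
    rw [← map_pow] at hk
    have h2 : g ^ (2 * k) = 1 := by rw [two_mul, pow_add]; exact sq_eq_one_of_rep hk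
    have h3 : M ∣ 2 * k := hM ▸ orderOf_dvd_of_pow_eq_one h2
    obtain ⟨M', rfl⟩ := hM1
    rw [Nat.mul_div_cancel_left _ two_pos]
    exact Nat.dvd_of_mul_dvd_mul_left two_pos h3
  have htorus : ∀ (n : ℕ), ¬ 3 ∣ n → ∀ c : Eˣ, orderOf c = 2 * n → ∀ k : Fin 2,
      (((c⁻¹ : Eˣ) : E) * (c : E) ^ 3 * ((diagSL c : Matrix (Fin 2) (Fin 2) E) k k ^ q * (diagSL c : Matrix (Fin 2) (Fin 2) E) k k ^ q) = 1) →
      ∃ x : Aff L, n * 3 ∣ orderOf x := by
    intro n hn c hc k hw
    refine exists_mul_dvd_orderOf Nat.prime_three hV (hL (diagSL c)) (n := n) ?_ ?_ hn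
      (w := Pi.single ((1, 0), (k, k)) 1) (fun h => one_ne_zero (α := E) (by simpa using congrFun h ((1, 0), (k, k)))) ?_
    · rw [← map_pow, ← map_pow]
      set b := c ^ n with hb
      have hb2 : b * b = 1 := by rw [hb, ← pow_add, ← two_mul, ← hc, pow_orderOf_eq_one]
      refine rep_of_scalar (c := (b : E)) (by rw [← Units.val_mul, hb2, Units.val_one]) ?_
      have hbi : b⁻¹ = b := inv_eq_of_mul_eq_one_right hb2
      ext i j
      fin_cases i <;> fin_cases j <;> simp [diagSL_coe, hbi, ← Units.val_inv_eq_inv_val]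
    · intro j hj
      rw [← map_pow] at hj
      have h2 := sq_eq_one_of_rep hj
      rw [← map_pow, ← map_mul, ← (map_one diagSL : diagSL (1 : Eˣ) = 1), ← pow_add, ← two_mul] at h2
      have h3 := orderOf_dvd_of_pow_eq_one (diagSL_injective h2)
      rw [hc] at h3
      exact Nat.dvd_of_mul_dvd_mul_left two_pos h3
    · rw [app_rep, mulVec_single_one]
      funext ⟨⟨i1, i2⟩, i3, i4⟩
      have hdiag : ∀ i j : Fin 2, i ≠ j → (diagSL c : Matrix (Fin 2) (Fin 2) E) i j = 0 := by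
        intro i j hij
        fin_cases i <;> fin_cases j <;> first | exact absurd rfl hij | simp [diagSL_coe]
      simp only [Matrix.col_apply, tens, kroneckerMap_apply, Matrix.map_apply, sig_apply, frobenius_def,
        Pi.single_apply, Prod.mk.injEq]
      by_cases h : ((i1 = 1 ∧ i2 = 0) ∧ i3 = k ∧ i4 = k)
      · obtain ⟨⟨rfl, rfl⟩, rfl, rfl⟩ := h
        rw [if_pos ⟨⟨rfl, rfl⟩, rfl, rfl⟩, ← hq]
        rw [show (diagSL c : Matrix (Fin 2) (Fin 2) E) 1 1 = ((c⁻¹ : Eˣ) : E) by simp [diagSL_coe],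
          show (diagSL c : Matrix (Fin 2) (Fin 2) E) 0 0 = (c : E) by simp [diagSL_coe]]
        exact hw
      · rw [if_neg h]
        simp only [not_and_or] at h
        have hq0 : Fintype.card F ≠ 0 := Fintype.card_ne_zero
        rcases h with (h | h) | h | h <;> rw [hdiag _ _ h] <;> simp [zero_pow hq0]
  obtain ⟨-, h | h | h | h | ⟨-, h⟩⟩ := hk
  · obtain ⟨x, hx⟩ := big gp _ hgp (by rw [hE]; omega)
    rw [hE, ← sq] at hx
    exact ⟨x, h.trans (hd.symm ▸ hx)⟩
  · obtain ⟨x, hx⟩ := big gm _ hgm (by rw [hE]; omega)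
    rw [hE, ← sq] at hx
    exact ⟨x, h.trans (hd.symm ▸ hx)⟩
  · set c := y ^ ((q + 1) / 2) with hc
    have hco : orderOf c = 2 * (q - 1) := by
      rw [hc, orderOf_pow' _ (by omega), hy, hfac]
      have h1 : (q + 1) * (q - 1) = (q + 1) / 2 * (2 * (q - 1)) := by
        rw [← mul_assoc, Nat.div_mul_cancel (by omega)]
      rw [h1, Nat.gcd_mul_right_left, Nat.mul_div_cancel_left _ (by omega)]
    obtain ⟨x, hx⟩ := htorus (q - 1) hnp2 c hco 1 (by
      rw [show (diagSL c : Matrix (Fin 2) (Fin 2) E) 1 1 = ((c⁻¹ : Eˣ) : E) by simp [diagSL_coe]]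
      have h2 : c ^ (2 * (q - 1)) = 1 := by rw [← hco, pow_orderOf_eq_one]
      have : c⁻¹ * c ^ 3 * ((c⁻¹) ^ q * (c⁻¹) ^ q) = 1 := by
        rw [inv_pow, ← _root_.mul_inv_rev, ← pow_add, show q + q = 2 * (q - 1) + 2 by omega, pow_add, h2,
          one_mul, pow_succ' c 2, inv_mul_cancel_left, mul_inv_cancel]
      simpa using congrArg Units.val this)
    exact ⟨x, h.trans (mul_comm 3 (q - 1) ▸ hx)⟩
  · set c := y ^ ((q - 1) / 2) with hc
    have hco : orderOf c = 2 * (q + 1) := by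
      rw [hc, orderOf_pow' _ (by omega), hy, hfac]
      have h1 : (q + 1) * (q - 1) = (q - 1) / 2 * (2 * (q + 1)) := by
        rw [← mul_assoc, Nat.div_mul_cancel (by omega), mul_comm]
      rw [h1, Nat.gcd_mul_right_left, Nat.mul_div_cancel_left _ (by omega)]
    obtain ⟨x, hx⟩ := htorus (q + 1) hnp1 c hco 0 (by
      rw [show (diagSL c : Matrix (Fin 2) (Fin 2) E) 0 0 = (c : E) by simp [diagSL_coe]]
      have h2 : c ^ (2 * (q + 1)) = 1 := by rw [← hco, pow_orderOf_eq_one]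
      have : c⁻¹ * c ^ 3 * (c ^ q * c ^ q) = 1 := by
        rw [pow_succ' c 2, inv_mul_cancel_left, ← pow_add, ← pow_add,
          show 2 + (q + q) = 2 * (q + 1) by omega, h2]
      simpa using congrArg Units.val this)
    exact ⟨x, h.trans (mul_comm 3 (q + 1) ▸ hx)⟩
  · -- an element of order 9
    let u : SpecialLinearGroup (Fin 2) E := ⟨!![1, 1; 0, 1], by simp [det_fin_two]⟩
    have hu : ∀ i : ℕ, ((u ^ i : SpecialLinearGroup (Fin 2) E) : Matrix (Fin 2) (Fin 2) E) = !![1, (i : E); 0, 1] := by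
      intro i
      induction i with
      | zero => ext a b; fin_cases a <;> fin_cases b <;> simp
      | succ i ih =>
        rw [pow_succ, Matrix.SpecialLinearGroup.coe_mul, ih]
        show !![1, (i : E); 0, 1] * !![1, 1; 0, 1] = !![1, ((i + 1 : ℕ) : E); 0, 1]
        ext a b
        fin_cases a <;> fin_cases b <;> simp [Matrix.mul_apply, Fin.sum_univ_two, add_comm]
    let g : Aff L := ⟨Multiplicative.ofAdd (Pi.single ((1, 1), (1, 1)) 1), ⟨rep F E u, hL u⟩⟩
    refine ⟨g, h.trans ?_⟩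
    have hu3 : rep F E u ^ 3 = 1 := by
      refine rep_pow_of_scalar (c := 1) (one_mul 1) ?_
      rw [one_smul, ← Matrix.SpecialLinearGroup.coe_pow, hu, CharP.cast_eq_zero E 3]
      ext a b
      fin_cases a <;> fin_cases b <;> simp
    have h4 : orderOf g ∣ 3 ^ 2 := by rw [sq]; exact orderOf_dvd_mul hV g hu3
    obtain ⟨i, hi, hi'⟩ := (Nat.dvd_prime_pow Nat.prime_three).1 h4
    rw [hi']
    refine pow_dvd_pow 3 ?_
    by_contra hlt
    have h2 : g ^ 3 = 1 := orderOf_dvd_iff_pow_eq_one.1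
      (by rw [hi']; exact (pow_dvd_pow 3 (show i ≤ 1 by omega)).trans (by norm_num))
    have h5 := left_pow g 3
    rw [h2] at h5
    have h6 := congrFun h5 ((0, 0), (0, 0))
    change (0 : E) = (∑ i ∈ Finset.range 3, app (rep F E u ^ i) (Pi.single ((1, 1), (1, 1)) 1)) ((0, 0), (0, 0)) at h6
    rw [Finset.sum_apply, Finset.sum_congr rfl (fun i _ => by
      rw [← map_pow, app_rep, mulVec_single_one, hu, Matrix.col_apply, tens])] at h6
    simp [Finset.sum_range_succ, kroneckerMap_apply, frobenius_def, sig_apply, zero_pow (Fintype.card_ne_zero (α := F))] at h6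
    have h17 : ((17 : ℕ) : E) = 0 := by
      push_cast
      linear_combination -h6
    exact absurd ((CharP.cast_eq_zero_iff E 3 17).1 h17) (by norm_num)

end CfsgLib.ThreePower57
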