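import Mathlib

set_option autoImplicit false

/-!
The double cover `2.S₅` with a unique involution, realised by the matrices over `GF(5)` of determinant
`1` or `3`, where the product of two matrices of determinant `3` is doubled (it is the group of
elements of `SL(2,25)` that the field automorphism sends to `± ` themselves), with the values of a
faithful character of degree 4 that has no fixed vectors.
-/

namespace CfsgLib.TwoSFive

/-- A two by two matrix over `ZMod 5`. -/
structure Mat where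
  a : ZMod 5
  b : ZMod 5
  c : ZMod 5
  d : ZMod 5
deriving DecidableEq

namespace Mat

def det (m : Mat) : ZMod 5 := m.a * m.d - m.b * m.c

/-- The twist of the product. -/
def twist (u v : ZMod 5) : ZMod 5 := if u = 3 ∧ v = 3 then 2 else 1

def mul (m n : Mat) : Mat :=
  let k := twist m.det n.det
  ⟨k * (m.a * n.a + m.b * n.c), k * (m.a * n.b + m.b * n.d),
   k * (m.c * n.a + m.d * n.c), k * (m.c * n.b + m.d * n.d)⟩

def adj (m : Mat) : Mat := ⟨m.d, -m.b, -m.c, m.a⟩

theorem det_mul (m n : Mat) : (mul m n).det = twist m.det n.det ^ 2 * m.det * n.det := by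
  simp only [mul, det]
  ring

theorem det_adj (m : Mat) : m.adj.det = m.det := by
  simp only [adj, det]
  ring

/-- The equivalence with quadruples. -/
def equivQuad : Mat ≃ ZMod 5 × ZMod 5 × ZMod 5 × ZMod 5 where
  toFun m := (m.a, m.b, m.c, m.d)
  invFun p := ⟨p.1, p.2.1, p.2.2.1, p.2.2.2⟩

instance : Fintype Mat := Fintype.ofEquiv _ equivQuad.symm

end Mat

open Mat in
theorem twist_ok {u v : ZMod 5} (hu : u = 1 ∨ u = 3) (hv : v = 1 ∨ v = 3) :
    twist u v ^ 2 * u * v = 1 ∨ twist u v ^ 2 * u * v = 3 := by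
  revert hu hv u v
  decide

open Mat in
theorem twist_assoc {u v w : ZMod 5} (hu : u = 1 ∨ u = 3) (hv : v = 1 ∨ v = 3) (hw : w = 1 ∨ w = 3) :
    twist (twist u v ^ 2 * u * v) w * twist u v = twist u (twist v w ^ 2 * v * w) * twist v w := by
  revert hu hv hw u v w
  decide

/-- The group `2.S₅⁻`. -/
def L : Type := {m : Mat // m.det = 1 ∨ m.det = 3}

instance : DecidableEq L := inferInstanceAs (DecidableEq {m : Mat // m.det = 1 ∨ m.det = 3})
instance : Fintype L := inferInstanceAs (Fintype {m : Mat // m.det = 1 ∨ m.det = 3})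

instance : Mul L :=
  ⟨fun x y => ⟨Mat.mul x.1 y.1, by rw [Mat.det_mul]; exact twist_ok x.2 y.2⟩⟩
instance : One L := ⟨⟨⟨1, 0, 0, 1⟩, Or.inl (by decide)⟩⟩
instance : Inv L := ⟨fun x => ⟨x.1.adj, by rw [Mat.det_adj]; exact x.2⟩⟩

theorem val_mul (x y : L) : (x * y).1 = Mat.mul x.1 y.1 := rfl

theorem mul_assoc' (x y z : L) : x * y * z = x * (y * z) := by
  apply Subtype.ext
  have h := twist_assoc x.2 y.2 z.2
  rw [val_mul, val_mul, val_mul, val_mul]
  have e1 := Mat.det_mul x.1 y.1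
  have e2 := Mat.det_mul y.1 z.1
  generalize hp : Mat.twist x.1.det y.1.det = p at h e1
  generalize hq : Mat.twist y.1.det z.1.det = q at h e2
  generalize hr : Mat.twist (p ^ 2 * x.1.det * y.1.det) z.1.det = r at h
  generalize hs : Mat.twist x.1.det (q ^ 2 * y.1.det * z.1.det) = s at h
  have l : Mat.mul (Mat.mul x.1 y.1) z.1 = (⟨
      r * p * ((x.1.a * y.1.a + x.1.b * y.1.c) * z.1.a + (x.1.a * y.1.b + x.1.b * y.1.d) * z.1.c),
      r * p * ((x.1.a * y.1.a + x.1.b * y.1.c) * z.1.b + (x.1.a * y.1.b + x.1.b * y.1.d) * z.1.d),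
      r * p * ((x.1.c * y.1.a + x.1.d * y.1.c) * z.1.a + (x.1.c * y.1.b + x.1.d * y.1.d) * z.1.c),
      r * p * ((x.1.c * y.1.a + x.1.d * y.1.c) * z.1.b + (x.1.c * y.1.b + x.1.d * y.1.d) * z.1.d)⟩ : Mat) := by
    conv_lhs => unfold Mat.mul
    simp only [Mat.mk.injEq]
    rw [show Mat.twist (Mat.det _) z.1.det = r from by rw [← hr, ← e1]; simp only [Mat.mul, hp]]
    refine ⟨?_, ?_, ?_, ?_⟩ <;> rw [hp] <;> ring
  have l' : Mat.mul x.1 (Mat.mul y.1 z.1) = (⟨
      s * q * ((x.1.a * y.1.a + x.1.b * y.1.c) * z.1.a + (x.1.a * y.1.b + x.1.b * y.1.d) * z.1.c),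
      s * q * ((x.1.a * y.1.a + x.1.b * y.1.c) * z.1.b + (x.1.a * y.1.b + x.1.b * y.1.d) * z.1.d),
      s * q * ((x.1.c * y.1.a + x.1.d * y.1.c) * z.1.a + (x.1.c * y.1.b + x.1.d * y.1.d) * z.1.c),
      s * q * ((x.1.c * y.1.a + x.1.d * y.1.c) * z.1.b + (x.1.c * y.1.b + x.1.d * y.1.d) * z.1.d)⟩ : Mat) := by
    conv_lhs => unfold Mat.mul
    simp only [Mat.mk.injEq]
    rw [show Mat.twist x.1.det (Mat.det _) = s from by rw [← hs, ← e2]; simp only [Mat.mul, hq]]
    refine ⟨?_, ?_, ?_, ?_⟩ <;> rw [hq] <;> ring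
  rw [l, l', h]

theorem one_mul' (x : L) : 1 * x = x := by
  apply Subtype.ext
  show Mat.mul ⟨1, 0, 0, 1⟩ x.1 = x.1
  simp [Mat.mul, Mat.det, Mat.twist, show ¬ ((1 : ZMod 5) = 3) by decide]

theorem inv_mul_cancel' (x : L) : x⁻¹ * x = 1 := by
  apply Subtype.ext
  show Mat.mul x.1.adj x.1 = ⟨1, 0, 0, 1⟩
  have hk : Mat.twist x.1.det x.1.det * x.1.det = 1 := by
    rcases x.2 with h | h <;> rw [h] <;> decide
  simp only [Mat.mul, Mat.det_adj, Mat.mk.injEq]
  simp only [Mat.adj]
  generalize hkk : Mat.twist x.1.det x.1.det = k at hk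
  simp only [Mat.det] at hk
  refine ⟨?_, ?_, ?_, ?_⟩
  · linear_combination hk
  · ring
  · ring
  · linear_combination hk

instance : Group L := Group.ofLeftAxioms mul_assoc' one_mul' inv_mul_cancel'

/-- The central involution. -/
def z : L := ⟨⟨4, 0, 0, 4⟩, Or.inl (by decide)⟩

/-- The values of a faithful character of degree 4. -/
def chi (x : L) : ℤ :=
  if x.1.det = 1 then
    if x.1 = ⟨1, 0, 0, 1⟩ then 4
    else if x.1 = ⟨4, 0, 0, 4⟩ then -4
    else if x.1.a + x.1.d = 2 then -1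
    else if x.1.a + x.1.d = 3 then 1
    else if x.1.a + x.1.d = 1 then 2
    else if x.1.a + x.1.d = 4 then -2
    else 0
  else 0

theorem chi_z (x : L) : chi (z * x) = -chi x := by
  revert x
  decide +kernel

theorem exponent_cases : ∀ x : L,
    x * x * (x * x) * (x * x * (x * x)) = 1 ∨
    x * x * (x * x) * (x * x * (x * x)) * (x * x) = 1 ∨
    x * x * (x * x) * (x * x * (x * x)) * (x * x * (x * x)) = 1 := by
  decide +kernel

theorem z_of_square : ∀ x : L, x * x = 1 → x = 1 ∨ x = z := by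
  decide +kernel

theorem chi_sum_three : ∀ h : L, h ≠ 1 → h * h * h = 1 →
    ∀ x : L, (chi x + chi (h * x) + chi (h * (h * x))) % 7 = 0 := by
  decide +kernel

theorem chi_sum_five : ∀ h : L, h ≠ 1 → h * h * h * h * h = 1 →
    ∀ x : L, (chi x + chi (h * x) + chi (h * (h * x)) + chi (h * (h * (h * x))) +
      chi (h * (h * (h * (h * x))))) % 7 = 0 := by
  decide +kernel

end CfsgLib.TwoSFive
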